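import Groth.Agent.EGA43.K891.FamLift1
import Groth.Agent.FormalB.PushLimUnit273
import Mathlib.RingTheory.Noetherian.Basic
import Mathlib.AlgebraicGeometry.Morphisms.SchemeTheoreticallyDominant

/-!
# The conductor of a finite morphism which is an isomorphism outside a closed subset
-/

set_option autoImplicit false
universe u

open CategoryTheory CategoryTheory.Limits AlgebraicGeometry TopologicalSpace Opposite

namespace K891.Conductor

open Groth.Agent.Fdesc.LocGen Groth.Agent.Flat2H.FamExt Groth.Agent.Flat2H.FamDict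
open Groth.Agent.Divis.AmpleAvoid K891.FamLift

/-- The conductor ideal. -/
def cond {A B : Type*} [CommRing A] [CommRing B] (φ : A →+* B) : Ideal A where
  carrier := {a | ∀ c : B, ∃ b', φ b' = φ a * c}
  zero_mem' := fun c ↦ ⟨0, by rw [map_zero, zero_mul]⟩
  add_mem' := by
    intro a b ha hb c
    obtain ⟨a', ha'⟩ := ha c
    obtain ⟨b', hb'⟩ := hb c
    exact ⟨a' + b', by rw [map_add, ha', hb', map_add, add_mul]⟩
  smul_mem' := by
    intro r a ha c
    obtain ⟨a', ha'⟩ := ha c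
    exact ⟨r * a', by rw [map_mul, ha', smul_eq_mul, map_mul, mul_assoc]⟩

theorem mem_cond {A B : Type*} [CommRing A] [CommRing B] (φ : A →+* B) (a : A) :
    a ∈ cond φ ↔ ∀ c : B, ∃ b', φ b' = φ a * c := Iff.rfl

theorem exists_pow_mem_cond {A B : Type*} [CommRing A] [CommRing B] (φ : A →+* B) (hφ : φ.Finite)
    (a : A) (h : ∀ c : B, ∃ (N : ℕ) (b' : A), φ b' = φ a ^ N * c) : ∃ N, a ^ N ∈ cond φ := by
  classical
  let _ : Algebra A B := φ.toAlgebra
  have hfin : Module.Finite A B := hφ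
  obtain ⟨s, hs⟩ := hfin.1
  choose N b' hb' using h
  let M := s.sup N
  have hM : ∀ c ∈ s, ∃ b', φ b' = φ a ^ M * c := by
    intro c hc
    obtain ⟨d, hd⟩ := Nat.exists_eq_add_of_le (Finset.le_sup (f := N) hc)
    refine ⟨a ^ d * b' c, ?_⟩
    change _ = φ a ^ s.sup N * c
    rw [hd, map_mul, hb', map_pow, pow_add]
    ring
  refine ⟨M, fun c ↦ ?_⟩
  have hc : c ∈ Submodule.span A (s : Set B) := by rw [hs]; trivial
  refine Submodule.span_induction (p := fun c _ ↦ ∃ b', φ b' = φ (a ^ M) * c) ?_ ?_ ?_ ?_ hc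
  · intro c hc
    obtain ⟨b', hb'⟩ := hM c hc
    exact ⟨b', by rw [hb', map_pow]⟩
  · exact ⟨0, by rw [map_zero, mul_zero]⟩
  · rintro x y - - ⟨x', hx'⟩ ⟨y', hy'⟩
    exact ⟨x' + y', by rw [map_add, hx', hy', mul_add]⟩
  · rintro r x - ⟨x', hx'⟩
    refine ⟨r * x', ?_⟩
    rw [map_mul, hx', Algebra.smul_def]
    change φ r * (_) = _ * (φ r * x)
    ring

theorem exists_pow_le_cond {A B : Type*} [CommRing A] [CommRing B] [IsNoetherianRing A]
    (φ : A →+* B) (hφ : φ.Finite) (I : Ideal A)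
    (h : ∀ a ∈ I, ∀ c : B, ∃ (N : ℕ) (b' : A), φ b' = φ a ^ N * c) : ∃ M, I ^ M ≤ cond φ := by
  apply Ideal.exists_pow_le_of_le_radical_of_fg
  · intro a ha
    exact exists_pow_mem_cond φ hφ a (h a ha)
  · exact IsNoetherian.noetherian I

variable {X X₁ : Scheme.{u}}

theorem exists_pow_mul_mem (h : X₁ ⟶ X) [IsAffineHom h] {U : X.Opens} (hU : IsAffineOpen U) (a : Γ(X, U))
    (hiso : IsIso (h ∣_ X.basicOpen a)) (c : Γ(X₁, h ⁻¹ᵁ U)) :
    ∃ (N : ℕ) (b' : Γ(X, U)), h.app U b' = h.app U a ^ N * c := by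
  have h1 : IsIso (h.app (X.basicOpen a)) :=
    Groth.Agent.FormalB.PushLimUnit273.isIso_app_of_isIso_morphismRestrict h _
  have hU1 : IsAffineOpen (h ⁻¹ᵁ U) := hU.preimage h
  have hsurj : Function.Surjective (h.app (X.basicOpen a)) := by
    intro y
    refine ⟨inv (h.app (X.basicOpen a)) y, ?_⟩
    change (inv (h.app (X.basicOpen a)) ≫ h.app (X.basicOpen a)) y = y
    rw [IsIso.inv_hom_id]; rfl
  have hle : X.basicOpen a ≤ U := X.basicOpen_le a
  obtain ⟨b, hb⟩ := hsurj (ores (h.preimage_mono hle) c)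
  obtain ⟨n, b₁, hb₁⟩ := res_ext_pow hU.isCompact hU.isQuasiSeparated a b
  have h2 : ores (h.preimage_mono hle) (h.app U b₁ - h.app U a ^ n * c) = 0 := by
    rw [map_sub, map_mul, map_pow, K891.FamLift.ores_app h hle, K891.FamLift.ores_app h hle, hb₁, map_mul,
      map_pow, hb, sub_self]
  have h3 : ores (X₁.basicOpen_le (h.app U a)) (h.app U b₁ - h.app U a ^ n * c) = 0 := by
    have h4 : X₁.basicOpen (h.app U a) ≤ h ⁻¹ᵁ X.basicOpen a := (Scheme.preimage_basicOpen h a).ge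
    have h5 := congrArg (ores h4) h2
    rw [map_zero] at h5
    rw [← h5, ores_ores]
  obtain ⟨m, hm⟩ := res_zero_ext hU1.isCompact _ _ h3
  refine ⟨m + n, a ^ m * b₁, ?_⟩
  rw [mul_sub, sub_eq_zero] at hm
  rw [map_mul, map_pow, hm, pow_add, mul_assoc]

theorem basicOpen_le_compl (Z : Closeds X) {U : X.Opens} (hU : IsAffineOpen U) (a : Γ(X, U))
    (ha : a ∈ (Scheme.IdealSheafData.vanishingIdeal Z).ideal ⟨U, hU⟩) : X.basicOpen a ≤ Z.compl := by
  intro x hx hxZ
  have h1 : x ∈ (Scheme.IdealSheafData.vanishingIdeal Z).support := by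
    rw [← SetLike.mem_coe, Scheme.IdealSheafData.coe_support_vanishingIdeal]; exact hxZ
  have hxU : x ∈ U := X.basicOpen_le a hx
  rw [Scheme.IdealSheafData.mem_support_iff_of_mem (U := ⟨U, hU⟩) hxU] at h1
  exact (Scheme.mem_zeroLocus_iff _ _ _).1 h1 a ha hx

/-- The conductor of a finite morphism which is an isomorphism outside `Z` contains a power of the
ideal of `Z`, locally. -/
theorem exists_pow_le_cond_app [IsLocallyNoetherian X] (h : X₁ ⟶ X) [IsFinite h] (Z : Closeds X)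
    (hiso : IsIso (h ∣_ Z.compl)) {U : X.Opens} (hU : IsAffineOpen U) :
    ∃ M, ((Scheme.IdealSheafData.vanishingIdeal Z).ideal ⟨U, hU⟩) ^ M ≤ cond (h.app U).hom := by
  have h1 : IsNoetherianRing Γ(X, U) := IsLocallyNoetherian.component_noetherian ⟨U, hU⟩
  apply exists_pow_le_cond _ (IsFinite.finite_app h U hU)
  intro a ha c
  have h2 : IsIso (h ∣_ X.basicOpen a) :=
    Groth.Agent.FormalB.PushLimUnit273.isIso_morphismRestrict_of_le h (basicOpen_le_compl Z hU a ha)
  exact exists_pow_mul_mem h hU a h2 c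

/-- Uniform version over a finite family. -/
theorem exists_uniform [IsLocallyNoetherian X] (h : X₁ ⟶ X) [IsFinite h] (Z : Closeds X)
    (hiso : IsIso (h ∣_ Z.compl)) {ι : Type*} [Finite ι] {W : ι → X.Opens}
    (haff : ∀ j, IsAffineOpen (W j)) :
    ∃ M, ∀ j, ((Scheme.IdealSheafData.vanishingIdeal Z) ^ (M + 1)).ideal ⟨W j, haff j⟩ ≤
      cond (h.app (W j)).hom := by
  choose M hM using fun j ↦ exists_pow_le_cond_app h Z hiso (haff j)
  obtain ⟨N, hN⟩ : ∃ N : ℕ, ∀ j, M j ≤ N := by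
    cases nonempty_fintype ι
    exact ⟨Finset.univ.sup M, fun j ↦ Finset.le_sup (Finset.mem_univ j)⟩
  refine ⟨N, fun j ↦ ?_⟩
  rw [Scheme.IdealSheafData.ideal_pow, Pi.pow_apply]
  exact (Ideal.pow_le_pow_right ((hN j).trans (Nat.le_succ N))).trans (hM j)

end K891.Conductor
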