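import Groth.Agent.Pic13.H959.RedLift
import Groth.Agent.Ega1.ReducedSub
import Mathlib.AlgebraicGeometry.Morphisms.Proper

/-!
# Properness of a closed subset near a point of the base

`isProper_iff`: for `i : W ⟶ X` a closed immersion with `W` reduced and range `C`, and `U` open in
`Y`, the restriction of `i ≫ f` over `U` is proper if and only if the reduced closed subscheme of
`f ⁻¹ U` on the trace of `C` is proper over `U`.
-/

set_option autoImplicit false
universe u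

open CategoryTheory CategoryTheory.Limits AlgebraicGeometry TopologicalSpace

namespace K891.RedProper

theorem exists_iso_of_range_eq {A B V : Scheme.{u}} (a : A ⟶ V) (b : B ⟶ V) [IsClosedImmersion a]
    [IsClosedImmersion b] [IsReduced A] [IsReduced B] (h : Set.range a = Set.range b) :
    ∃ e : A ≅ B, e.hom ≫ b = a := by
  obtain ⟨s, hs⟩ := Groth.Agent.Pic13.H959.RedLift.exists_lift b a h.subset
  obtain ⟨t, ht⟩ := Groth.Agent.Pic13.H959.RedLift.exists_lift a b h.superset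
  refine ⟨⟨s, t, ?_, ?_⟩, hs⟩
  · rw [← cancel_mono a, Category.assoc, ht, hs, Category.id_comp]
  · rw [← cancel_mono b, Category.assoc, hs, ht, Category.id_comp]

theorem range_subschemeι {X : Scheme.{u}} (C : Closeds X) :
    Set.range (Scheme.IdealSheafData.vanishingIdeal C).subschemeι = C := by
  rw [Scheme.IdealSheafData.range_subschemeι, Scheme.IdealSheafData.coe_support_vanishingIdeal]

theorem isProper_iff {W X Y : Scheme.{u}} (i : W ⟶ X) [IsClosedImmersion i] [IsReduced W] (f : X ⟶ Y)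
    (C : Set X) (hi : Set.range i = C) (U : Y.Opens)
    (hC : IsClosed ((f ⁻¹ᵁ U).ι.base ⁻¹' C)) :
    IsProper ((Scheme.IdealSheafData.vanishingIdeal
        (⟨(f ⁻¹ᵁ U).ι.base ⁻¹' C, hC⟩ : TopologicalSpace.Closeds ↥(f ⁻¹ᵁ U))).subschemeι ≫ (f ∣_ U)) ↔
      IsProper ((i ≫ f) ∣_ U) := by
  have hred := Groth.Agent.Ega1.ReducedSub.isReduced_subscheme_vanishingIdeal
    (X := ((f ⁻¹ᵁ U : X.Opens) : Scheme.{u})) (⟨(f ⁻¹ᵁ U).ι.base ⁻¹' C, hC⟩ : TopologicalSpace.Closeds ↥(f ⁻¹ᵁ U))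
  have hcl : IsClosedImmersion (i ∣_ (f ⁻¹ᵁ U)) := inferInstance
  have hr : Set.range (i ∣_ (f ⁻¹ᵁ U)) = Set.range (Scheme.IdealSheafData.vanishingIdeal
        (⟨(f ⁻¹ᵁ U).ι.base ⁻¹' C, hC⟩ : TopologicalSpace.Closeds ↥(f ⁻¹ᵁ U))).subschemeι := by
    rw [range_subschemeι]
    ext z
    constructor
    · rintro ⟨w, rfl⟩
      change (f ⁻¹ᵁ U).ι ((i ∣_ (f ⁻¹ᵁ U)) w) ∈ C
      rw [← Scheme.Hom.comp_apply, morphismRestrict_ι, Scheme.Hom.comp_apply, ← hi]
      exact ⟨_, rfl⟩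
    · intro hz
      have hz' : (f ⁻¹ᵁ U).ι z ∈ C := hz
      rw [← hi] at hz'
      obtain ⟨w, hw⟩ := hz'
      have hw' : w ∈ i ⁻¹ᵁ (f ⁻¹ᵁ U) := by
        change i w ∈ f ⁻¹ᵁ U
        rw [hw]
        exact z.2
      refine ⟨⟨w, hw'⟩, (f ⁻¹ᵁ U).ι.isOpenEmbedding.injective ?_⟩
      rw [← Scheme.Hom.comp_apply, morphismRestrict_ι, Scheme.Hom.comp_apply]
      exact hw
  obtain ⟨e, he⟩ := exists_iso_of_range_eq _ _ hr
  rw [morphismRestrict_comp, ← he, Category.assoc]
  exact (MorphismProperty.cancel_left_of_respectsIso @IsProper e.hom _).symm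

end K891.RedProper
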