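import Groth.Agent.EGA43.K891.Pinch
import Groth.Agent.EGA43.K891.Conductor
import Groth.Agent.EGA43.K891.RedProper
import Groth.Agent.Desc.ProperSupport
import Groth.Agent.S3599
import Groth.Agent.Ega2.RelAmp
import Groth.Agent.Flat2H.ThickAmple
import Groth.Agent.Ega4C.NormalRing2
import Groth.Agent.Divis.StalkMod
import Groth.Agent.PerfC.PullRestrict
import Groth.Agent.S0017
import Groth.Agent.S0019
import Groth.Agent.Dcoh.FinLocFree
import Groth.Agent.Fdesc.LocGenPullback
import Groth.Agent.Flat2H.RelAmpleBasic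

/-!
# Ampleness descends along finite surjective morphisms, when the non-normal locus is proper
-/

set_option autoImplicit false
universe u

open CategoryTheory CategoryTheory.Limits AlgebraicGeometry TopologicalSpace Opposite

namespace K891.AmpleFinSurj

open Groth.Agent.Fdesc.LocGen Groth.Agent.Flat2H.FamExt Groth.Agent.Flat2H.FamDict

variable {R : Type u} [CommRing R] [IsNoetherianRing R] {X X' : Scheme.{u}}

/-- the reduced case -/
theorem isAmple_of_reduced [IsReduced X] (aX : X ⟶ Spec (CommRingCat.of R)) [LocallyOfFiniteType aX]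
    [CompactSpace X] (g : X' ⟶ X) [IsFinite g] [Surjective g] (Z : Closeds X)
    (hZ : IsProper ((Scheme.IdealSheafData.vanishingIdeal Z).subschemeι ≫ aX))
    (hW : ∀ x ∈ Z.compl, (IsDomain (X.presheaf.stalk x) ∧ IsIntegrallyClosed (X.presheaf.stalk x)) ∨
      ∃ T : X.Opens, x ∈ T ∧ T ≤ Z.compl ∧
        FlatMod.IsFinLocFree (((Coh.push g).obj (Coh.structureModule X')).restrict T.ι))
    {L : X.Modules} (hL : PicF.IsInvertible L)
    (hA : CohB1.IsAmple ((Scheme.Modules.pullback g).obj L)) : CohB1.IsAmple L := by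
  have hXn : IsLocallyNoetherian X := LocallyOfFiniteType.isLocallyNoetherian aX
  have hXn' : IsNoetherian X := { }
  obtain ⟨X₁, hX₁, h, hfin, hiso, ⟨V, hVd, -, hViso⟩, hamp⟩ := Groth.Agent.S3599.result aX g Z.compl hW
  have hA₁ : CohB1.IsAmple ((Scheme.Modules.pullback h).obj L) :=
    Groth.Agent.Ega2.RelAmp.isRelAmple_iff_isAmple.1
      (hamp L hL (Groth.Agent.Ega2.RelAmp.isRelAmple_iff_isAmple.2 hA))
  have hdom : IsDominant h := by
    constructor
    refine hVd.mono fun x hx ↦ ?_
    have h1 : Surjective (h ∣_ V) := inferInstance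
    obtain ⟨y, hy⟩ := h1.1 ⟨x, hx⟩
    refine ⟨(h ⁻¹ᵁ V).ι y, ?_⟩
    rw [← Scheme.Hom.comp_apply, ← morphismRestrict_ι, Scheme.Hom.comp_apply, hy]
    rfl
  have hsurj : Surjective h := surjective_of_isDominant_of_isClosed_range h
    h.isClosedMap.isClosed_range
  have hstd : IsSchemeTheoreticallyDominant h := IsSchemeTheoreticallyDominant.of_isDominant h
  have hinj : ∀ U : X.Opens, Function.Injective (h.app U) := fun U ↦ h.app_injective U
  obtain ⟨n, W', g', haff', hT'⟩ := exists_trivs hL (fun U : X.Opens ↦ IsAffineOpen U)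
    (fun U x hx ↦ by
      obtain ⟨V, hV, hxV, hVU⟩ := (Opens.isBasis_iff_nbhd.1 X.isBasis_affineOpens) hx
      exact ⟨V, hxV, hVU, hV⟩)
  let W : ULift.{u} (Fin n) → X.Opens := fun j ↦ W' j.down
  obtain ⟨gW, hT⟩ : ∃ gW, Trivs L W gW := ⟨_, hT'.refine' W
    (fun x ↦ by obtain ⟨k, hk⟩ := hT'.1 x; exact ⟨⟨k⟩, hk⟩) (fun j ↦ j.down) (fun j ↦ le_rfl)⟩
  have haff : ∀ j, IsAffineOpen (W j) := fun j ↦ haff' j.down
  obtain ⟨M, hM⟩ := K891.Conductor.exists_uniform h Z hiso haff
  have hprop : IsProper (((Scheme.IdealSheafData.vanishingIdeal Z) ^ (M + 1)).subschemeι ≫ aX) := by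
    rw [Groth.Agent.Desc.ProperSupport.isProper_iff_of_support_eq aX
      (J := Scheme.IdealSheafData.vanishingIdeal Z)]
    · exact hZ
    · intro U
      rw [Scheme.IdealSheafData.ideal_pow, Pi.pow_apply]
      exact Ideal.pow_le_self (Nat.succ_ne_zero M)
    · rw [Scheme.IdealSheafData.support_pow_succ]
  exact K891.Pinch.isAmple_of_pinch aX h hT haff ((Scheme.IdealSheafData.vanishingIdeal Z) ^ (M + 1))
    hinj (fun j b hb ↦ hM j hb) hA₁

/-- The kernel of the map on stalks for a surjective closed immersion is a nil ideal. -/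
theorem isNilpotent_of_stalkMap_eq_zero {X Z : Scheme.{u}} (i : Z ⟶ X) [IsClosedImmersion i]
    [Surjective i] (z : Z) (a : X.presheaf.stalk (i z)) (ha : i.stalkMap z a = 0) : IsNilpotent a := by
  obtain ⟨U, hU, s, rfl⟩ := X.presheaf.exists_germ_eq a
  rw [Scheme.Hom.germ_stalkMap_apply] at ha
  obtain ⟨V, hzV, iU, iV, hV⟩ := TopCat.Presheaf.germ_eq Z.presheaf z
    (show z ∈ i ⁻¹ᵁ U from hU) (show z ∈ i ⁻¹ᵁ U from hU) (i.app U s) 0
    (by rw [map_zero]; exact ha)
  obtain ⟨V', hV', hVV'⟩ := i.isClosedEmbedding.isInducing.isOpen_iff.1 V.isOpen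
  have hzV' : i z ∈ V' := by
    have : z ∈ (i ⁻¹' V' : Set Z) := by rw [hVV']; exact hzV
    exact this
  obtain ⟨W, hW, hzW, hWle⟩ := (Opens.isBasis_iff_nbhd.1 X.isBasis_affineOpens)
    (show i z ∈ (⟨V', hV'⟩ ⊓ U : X.Opens) from ⟨hzV', hU⟩)
  have hWU : W ≤ U := hWle.trans inf_le_right
  have hWV : i ⁻¹ᵁ W ≤ V := by
    intro y hy
    have : y ∈ (i ⁻¹' V' : Set Z) := (hWle hy).1
    rwa [hVV'] at this
  have h0 : i.app W (ores hWU s) = 0 := by
    rw [← K891.FamLift.ores_app i hWU]
    have e1 : ores iU.le (i.app U s) = 0 := hV.trans (map_zero _)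
    have e2 := congrArg (ores hWV) e1
    rw [map_zero, ores_ores] at e2
    exact e2
  have h1 := Groth.Agent.Flat2C.AffineThickening.isNilpotent_of_app_eq_zero i
    (IsAffineOpen.isCompact hW) _ h0
  have h2 : X.presheaf.germ U (i z) hU s = X.presheaf.germ W (i z) hzW (ores hWU s) :=
    (TopCat.Presheaf.germ_res_apply X.presheaf (homOfLE hWU) (i z) hzW s).symm
  rw [h2]
  exact h1.map _

theorem normal_of_normal {X Z : Scheme.{u}} (i : Z ⟶ X) [IsClosedImmersion i] [Surjective i] (z : Z)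
    (h : IsDomain (X.presheaf.stalk (i z)) ∧ IsIntegrallyClosed (X.presheaf.stalk (i z))) :
    IsDomain (Z.presheaf.stalk z) ∧ IsIntegrallyClosed (Z.presheaf.stalk z) := by
  obtain ⟨h1, h2⟩ := h
  have hinj : Function.Injective (i.stalkMap z).hom := by
    rw [injective_iff_map_eq_zero]
    intro a ha
    exact (isNilpotent_of_stalkMap_eq_zero i z a ha).eq_zero
  have hsurj : Function.Surjective (i.stalkMap z).hom := i.stalkMap_surjective z
  exact Groth.Agent.Ega4C.NormalRing2.isDomain_isIntegrallyClosed_of_ringEquiv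
    (RingEquiv.ofBijective (i.stalkMap z).hom ⟨hinj, hsurj⟩) ⟨h1, h2⟩

theorem isFinLocFree_push_base {X X' X₀ X₀' : Scheme.{u}} {i : X₀ ⟶ X} {g : X' ⟶ X} {i' : X₀' ⟶ X'}
    {g₀ : X₀' ⟶ X₀} (sq : IsPullback i' g₀ g i) [IsAffineHom g] (V : X.Opens)
    (h : FlatMod.IsFinLocFree (((Coh.push g).obj (Coh.structureModule X')).restrict V.ι)) :
    FlatMod.IsFinLocFree (((Coh.push g₀).obj (Coh.structureModule X₀')).restrict (i ⁻¹ᵁ V).ι) := by
  have hq : Coh.IsQCoh (Coh.structureModule X') := Groth.Agent.Fdesc.StructMod.isQCoh_structureModule X'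
  obtain ⟨e⟩ := Groth.Agent.S0017.result g i i' g₀ sq (Coh.structureModule X')
  let e' : (Scheme.Modules.pullback i).obj ((Coh.push g).obj (Coh.structureModule X')) ≅
      (Coh.push g₀).obj (Coh.structureModule X₀') :=
    e ≪≫ (Coh.push g₀).mapIso (Groth.Agent.PerfC.PullRestrict.pullbackUnit i')
  refine Groth.Agent.Dcoh.FinLocFree.isFinLocFree_of_iso
    ((Scheme.Modules.restrictFunctor (i ⁻¹ᵁ V).ι).mapIso e') ?_
  refine Groth.Agent.Dcoh.FinLocFree.isFinLocFree_of_iso
    ((Groth.Agent.PerfC.PullRestrict.pullbackSquare (morphismRestrict_ι i V).symm).app _) ?_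
  exact Groth.Agent.PerfC.PullRestrict.isFinLocFree_pullback (i ∣_ V) h

theorem isFinLocFree_restrict_of_le {X : Scheme.{u}} {M : X.Modules} {U V : X.Opens} (hle : U ≤ V)
    (h : FlatMod.IsFinLocFree (M.restrict V.ι)) : FlatMod.IsFinLocFree (M.restrict U.ι) := by
  refine Groth.Agent.Dcoh.FinLocFree.isFinLocFree_of_iso
    (((Scheme.Modules.restrictFunctorComp (X.homOfLE hle) V.ι).symm ≪≫
      Scheme.Modules.restrictFunctorCongr (X.homOfLE_ι hle)).app M)
    (Groth.Agent.Dcoh.FinLocFree.isFinLocFree_restrict h (X.homOfLE hle))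

/-- The condition at a point: normal, or the direct image of the structure sheaf is locally free nearby. -/
def Good {X X' : Scheme.{u}} (g : X' ⟶ X) (x : X) : Prop :=
  (IsDomain (X.presheaf.stalk x) ∧ IsIntegrallyClosed (X.presheaf.stalk x)) ∨
    ∃ T : X.Opens, x ∈ T ∧
      FlatMod.IsFinLocFree (((Coh.push g).obj (Coh.structureModule X')).restrict T.ι)

theorem good_of_free_stalk {X X' : Scheme.{u}} [IsLocallyNoetherian X] (g : X' ⟶ X) [IsFinite g] (x : X)
    (h : Module.Free (X.presheaf.stalk x)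
      (((Coh.push g).obj (Coh.structureModule X')).presheaf.stalk x)) : Good g x := by
  have hcoh : Coh.IsCoh ((Coh.push g).obj (Coh.structureModule X')) := by
    have hX'n : IsLocallyNoetherian X' := LocallyOfFiniteType.isLocallyNoetherian g
    exact Groth.Agent.S0019.result g _ (Groth.Agent.Fdesc.StructMod.isCoh_structureModule X')
  obtain ⟨V, n, hxV, ⟨e⟩⟩ := Groth.Agent.Divis.StalkMod.exists_free_nhd hcoh x h
  exact Or.inr ⟨V, hxV, Groth.Agent.Dcoh.FinLocFree.isFinLocFree_of_iso e.symm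
    (Groth.Agent.Dcoh.FinLocFree.isFinLocFree_freeMod _ n)⟩

/-- **Descent of ampleness along a finite surjective morphism** over a Noetherian affine base, when
outside a closed subset proper over the base the scheme is normal or the direct image of the structure
sheaf is free. -/
theorem isAmple_of_finite (aX : X ⟶ Spec (CommRingCat.of R)) [LocallyOfFiniteType aX]
    [CompactSpace X] (g : X' ⟶ X) [IsFinite g] [Surjective g] (Z : Closeds X)
    (hZ : IsProper ((Scheme.IdealSheafData.vanishingIdeal Z).subschemeι ≫ aX))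
    (hW : ∀ x : X, x ∉ (Z : Set X) → Good g x)
    {L : X.Modules} (hL : PicF.IsInvertible L)
    (hA : CohB1.IsAmple ((Scheme.Modules.pullback g).obj L)) : CohB1.IsAmple L := by
  have hXn : IsLocallyNoetherian X := LocallyOfFiniteType.isLocallyNoetherian aX
  have hXn' : IsNoetherian X := { }
  let X₀ : Scheme.{u} := (Scheme.IdealSheafData.vanishingIdeal (⊤ : Closeds X)).subscheme
  let i : X₀ ⟶ X := (Scheme.IdealSheafData.vanishingIdeal (⊤ : Closeds X)).subschemeι
  have hred : IsReduced X₀ := Groth.Agent.Ega1.ReducedSub.isReduced_subscheme_vanishingIdeal _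
  have hcl : IsClosedImmersion i := inferInstanceAs (IsClosedImmersion (Scheme.IdealSheafData.subschemeι _))
  have hrange : Set.range i = Set.univ := by
    rw [K891.RedProper.range_subschemeι]; rfl
  have hsurj : Surjective i := ⟨Set.range_eq_univ.1 hrange⟩
  have hcomp : CompactSpace X₀ := QuasiCompact.compactSpace_of_compactSpace i
  let i' : pullback g i ⟶ X' := pullback.fst g i
  let g₀ : pullback g i ⟶ X₀ := pullback.snd g i
  have sq : IsPullback i' g₀ g i := IsPullback.of_hasPullback g i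
  have hg₀ : IsFinite g₀ := inferInstanceAs (IsFinite (pullback.snd g i))
  have hg₀s : Surjective g₀ := inferInstanceAs (Surjective (pullback.snd g i))
  rw [← Groth.Agent.Flat2H.ThickAmple.isAmple_iff_of_thickening i hL]
  have hL₀ : PicF.IsInvertible ((Scheme.Modules.pullback i).obj L) :=
    Groth.Agent.Fdesc.LocGen.isInvertible_pullback i hL
  let Z₀ : Closeds X₀ := ⟨i ⁻¹' Z, Z.isClosed.preimage i.continuous⟩
  have hZ₀ : IsProper ((Scheme.IdealSheafData.vanishingIdeal Z₀).subschemeι ≫ i ≫ aX) := by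
    have hred₀ := Groth.Agent.Ega1.ReducedSub.isReduced_subscheme_vanishingIdeal Z₀
    have hred₁ := Groth.Agent.Ega1.ReducedSub.isReduced_subscheme_vanishingIdeal Z
    have hr : Set.range ((Scheme.IdealSheafData.vanishingIdeal Z₀).subschemeι ≫ i) =
        Set.range (Scheme.IdealSheafData.vanishingIdeal Z).subschemeι := by
      rw [K891.RedProper.range_subschemeι, Scheme.Hom.comp_base, TopCat.coe_comp, Set.range_comp,
        K891.RedProper.range_subschemeι]
      exact (Set.image_preimage_eq_inter_range (f := i)).trans (by rw [hrange, Set.inter_univ]; rfl)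
    obtain ⟨e, he⟩ := K891.RedProper.exists_iso_of_range_eq
      ((Scheme.IdealSheafData.vanishingIdeal Z₀).subschemeι ≫ i) _ hr
    rw [← Category.assoc, ← he, Category.assoc]
    infer_instance
  refine isAmple_of_reduced (i ≫ aX) g₀ Z₀ hZ₀ ?_ hL₀ ?_
  · intro x hx
    have hx' : i x ∉ (Z : Set X) := hx
    rcases hW (i x) hx' with h1 | ⟨V, hxV, h1⟩
    · exact Or.inl (normal_of_normal i x h1)
    · refine Or.inr ⟨i ⁻¹ᵁ (V ⊓ Z.compl), ⟨hxV, hx'⟩, fun y hy ↦ hy.2, ?_⟩
      apply isFinLocFree_push_base sq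
      exact isFinLocFree_restrict_of_le inf_le_left h1
  · have : CohB1.IsAmple ((Scheme.Modules.pullback i').obj ((Scheme.Modules.pullback g).obj L)) :=
      Groth.Agent.Flat2H.FamOpen.isAmple_pullback_of_isAffineHom i' hA
    refine Groth.Agent.Flat2H.FamDict.isAmple_of_iso ?_ this
    exact (Scheme.Modules.pullbackComp i' g).app L ≪≫
      (Scheme.Modules.pullbackCongr sq.w).app L ≪≫
      ((Scheme.Modules.pullbackComp g₀ i).app L).symm

theorem Good.restrict {X X' : Scheme.{u}} {g : X' ⟶ X} [IsAffineHom g] {U : X.Opens} {x : U}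
    (h : Good g (U.ι x)) : Good (g ∣_ U) x := by
  rcases h with h | ⟨T, hxT, h⟩
  · left
    exact Groth.Agent.Ega4C.NormalRing2.isDomain_isIntegrallyClosed_of_ringEquiv
      (asIso (U.ι.stalkMap x)).commRingCatIsoToRingEquiv h
  · right
    exact ⟨U.ι ⁻¹ᵁ T, hxT, isFinLocFree_push_base (isPullback_morphismRestrict g U).flip T h⟩

/-- The relative version over a locally Noetherian base. -/
theorem isRelAmple_of_finite {X X' Y : Scheme.{u}} [IsLocallyNoetherian Y] (f : X ⟶ Y)
    [LocallyOfFiniteType f] [QuasiCompact f] (g : X' ⟶ X) [IsFinite g] [Surjective g] {L : X.Modules}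
    (hL : PicF.IsInvertible L) (Z : Closeds X)
    (hZ : IsProper ((Scheme.IdealSheafData.vanishingIdeal Z).subschemeι ≫ f))
    (hW : ∀ x : X, x ∉ (Z : Set X) → Good g x)
    (hA : RelAmple.IsRelAmple (g ≫ f) ((Scheme.Modules.pullback g).obj L)) :
    RelAmple.IsRelAmple f L := by
  refine ⟨inferInstance, fun V ↦ ?_⟩
  have hVaff : IsAffineOpen V.1 := V.2
  have hRn : IsNoetherianRing Γ(Y, V.1) := IsLocallyNoetherian.component_noetherian V
  let U : X.Opens := f ⁻¹ᵁ V.1
  let aX : (U : Scheme.{u}) ⟶ Spec (CommRingCat.of Γ(Y, V.1)) := (f ∣_ V.1) ≫ hVaff.isoSpec.hom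
  have hlft : LocallyOfFiniteType (f ∣_ V.1) := inferInstance
  have haX : LocallyOfFiniteType aX := inferInstanceAs (LocallyOfFiniteType (_ ≫ hVaff.isoSpec.hom))
  have hcomp : CompactSpace (U : Scheme.{u}) :=
    isCompact_iff_compactSpace.1 (QuasiCompact.isCompact_preimage (f := f) V.1 V.1.isOpen hVaff.isCompact)
  have hgf : IsFinite (g ∣_ U) :=
    MorphismProperty.of_isPullback (isPullback_morphismRestrict g U).flip inferInstance
  have hgs : Surjective (g ∣_ U) :=
    MorphismProperty.of_isPullback (isPullback_morphismRestrict g U).flip inferInstance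
  let Z' : Closeds (U : Scheme.{u}) := ⟨U.ι ⁻¹' Z, Z.isClosed.preimage U.ι.continuous⟩
  have hred := Groth.Agent.Ega1.ReducedSub.isReduced_subscheme_vanishingIdeal Z
  have hZ' : IsProper ((Scheme.IdealSheafData.vanishingIdeal Z').subschemeι ≫ aX) := by
    have h1 : IsProper ((Scheme.IdealSheafData.vanishingIdeal Z').subschemeι ≫ (f ∣_ V.1)) :=
      (K891.RedProper.isProper_iff (Scheme.IdealSheafData.vanishingIdeal Z).subschemeι f (Z : Set X)
        (K891.RedProper.range_subschemeι Z) V.1 (Z.isClosed.preimage U.ι.continuous)).2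
        inferInstance
    rw [← Category.assoc]
    infer_instance
  have hLU : PicF.IsInvertible (L.restrict U.ι) := Groth.Agent.Flat2H.RelAmpleBasic.isInvertible_restrict hL U.ι
  refine isAmple_of_finite aX (g ∣_ U) Z' hZ' (fun x hx ↦ Good.restrict (hW _ hx)) hLU ?_
  refine isAmple_of_iso ?_ (hA.2 V)
  exact (Scheme.Modules.restrictFunctorIsoPullback (g ⁻¹ᵁ U).ι).app _ ≪≫
    (Scheme.Modules.pullbackComp (g ⁻¹ᵁ U).ι g).app L ≪≫
    (Scheme.Modules.pullbackCongr (morphismRestrict_ι g U).symm).app L ≪≫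
    ((Scheme.Modules.pullbackComp (g ∣_ U) U.ι).app L).symm ≪≫
    (Scheme.Modules.pullback (g ∣_ U)).mapIso ((Scheme.Modules.restrictFunctorIsoPullback U.ι).app L).symm

end K891.AmpleFinSurj
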