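import Groth.Agent.EGA43.K891.LenIneqAlg
import Groth.Agent.Fdesc.AssFlat
import Groth.Agent.CycB.SpMod
import Groth.Agent.Ega4C.AssQuot
import Groth.Agent.S1577
import Mathlib.RingTheory.Nakayama

/-!
# Lengths at the maximal points of the fibres of a flat module over a discrete valuation ring
-/

set_option autoImplicit false
universe u

open AlgebraicGeometry CategoryTheory TopologicalSpace CategoryTheory.Limits Pointwise
open Groth.Agent.CycB.SpDVR Groth.Agent.CycB.SpMod Groth.Agent.CycB.LocQuot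
open Groth.Agent.CycB.StalkLen Groth.Agent.CycB.DimIneq

namespace K891.LenIneq

section Max

variable {X : Scheme.{u}} [IsLocallyNoetherian X] {F : X.Modules} (hF : Coh.IsCoh F)

/-- a maximal point of the support of `F` -/
def IsMaxPt {X : Scheme.{u}} (F : X.Modules) (x : X) : Prop :=
  Nontrivial (F.presheaf.stalk x) ∧ ∀ w : X, Nontrivial (F.presheaf.stalk w) → w ⤳ x → w = x

omit [IsLocallyNoetherian X] in
include hF in
theorem exists_isMaxPt (w : X) (hw : Nontrivial (F.presheaf.stalk w)) :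
    ∃ w₀ : X, w₀ ⤳ w ∧ IsMaxPt F w₀ := by
  have hfin := Groth.Agent.CycB.StalkLoc.finite_stalk F hF w
  have h0 : primeOf (specializes_refl w) ∈ Module.support (X.presheaf.stalk w) (F.presheaf.stalk w) :=
    (mem_support_stalk_iff F hF.1 (specializes_refl w)).2 hw
  have h0' := h0
  rw [Module.mem_support_iff_of_finite] at h0'
  obtain ⟨q, hq, hqp⟩ := Ideal.exists_minimalPrimes_le h0'
  let Q : PrimeSpectrum (X.presheaf.stalk w) := ⟨q, hq.1.1⟩
  refine ⟨ptOf Q, ptOf_specializes Q, ?_, ?_⟩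
  · rw [← mem_support_stalk_iff F hF.1 (ptOf_specializes Q), primeOf_ptOf,
      Module.mem_support_iff_of_finite]
    exact hq.1.2
  · intro x hx hxw
    have h1 : x ⤳ w := hxw.trans (ptOf_specializes Q)
    have h2 := (mem_support_stalk_iff F hF.1 h1).2 hx
    rw [Module.mem_support_iff_of_finite] at h2
    have h3 : primeOf h1 ≤ Q := by
      rw [← primeOf_ptOf Q, primeOf_le_iff]
      exact hxw
    have h4 : Q ≤ primeOf h1 := hq.2 ⟨(primeOf h1).2, h2⟩ h3
    have h5 : primeOf h1 = Q := le_antisymm h3 h4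
    rw [← ptOf_primeOf h1, h5]

include hF in
/-- For a maximal point `ξ` of the support specializing to `x`, the prime of `ξ` is associated to `F_x`. -/
theorem mem_associatedPrimes {x ξ : X} (h : ξ ⤳ x) (hξ : IsMaxPt F ξ) :
    (primeOf h).asIdeal ∈ associatedPrimes (X.presheaf.stalk x) (F.presheaf.stalk x) := by
  have hfin := Groth.Agent.CycB.StalkLoc.finite_stalk F hF x
  apply Module.associatedPrimes.minimalPrimes_annihilator_subset_associatedPrimes
  have hs := (mem_support_stalk_iff F hF.1 h).2 hξ.1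
  refine ⟨⟨(primeOf h).2, Module.annihilator_le_of_mem_support hs⟩, ?_⟩
  rintro q ⟨hq, hann⟩ hle
  let Q : PrimeSpectrum (X.presheaf.stalk x) := ⟨q, hq⟩
  have hqs : Q ∈ Module.support (X.presheaf.stalk x) (F.presheaf.stalk x) := by
    rw [Module.mem_support_iff_of_finite]
    exact hann
  rw [← primeOf_ptOf Q, mem_support_stalk_iff F hF.1] at hqs
  have h1 : ptOf Q ⤳ ξ := by
    rw [← primeOf_le_iff (ptOf_specializes Q) h, primeOf_ptOf]
    exact hle
  have h2 := hξ.2 _ hqs h1
  have h3 : Q = primeOf h := by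
    rw [← primeOf_ptOf Q, primeOf_inj]
    exact h2
  exact (congrArg PrimeSpectrum.asIdeal h3).ge

end Max

section DVR

variable {R : Type u} [CommRing R] [IsDomain R] [IsDiscreteValuationRing R]
  {X : Scheme.{u}} (f : X ⟶ Spec (CommRingCat.of R)) (F : X.Modules)

/-- the element `ϖ` in the stalk at `y` -/
noncomputable def piS (ϖ : R) (y : ↥(Spec (CommRingCat.of R))) :
    (Spec (CommRingCat.of R)).presheaf.stalk y :=
  (Spec (CommRingCat.of R)).presheaf.germ ⊤ y trivial ((Scheme.ΓSpecIso (CommRingCat.of R)).inv ϖ)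

theorem maximalIdeal_eq {ϖ : R} (hϖ : Irreducible ϖ) (y : ↥(Spec (CommRingCat.of R)))
    (hy : y = IsLocalRing.closedPoint R) :
    IsLocalRing.maximalIdeal ((Spec (CommRingCat.of R)).presheaf.stalk y) =
      Ideal.span {piS ϖ y} := by
  let k : Algebra R ((Spec (CommRingCat.of R)).presheaf.stalk y) :=
    StructureSheaf.stalkAlgebra R y
  have hp : y.asIdeal.IsPrime := PrimeSpectrum.isPrime y
  have : IsLocalization.AtPrime ((Spec (CommRingCat.of R)).presheaf.stalk y) y.asIdeal :=
    StructureSheaf.IsLocalization.to_stalk R y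
  have h1 : y.asIdeal = Ideal.span {ϖ} := by
    rw [hy]; exact hϖ.maximalIdeal_eq
  rw [← IsLocalization.AtPrime.map_eq_maximalIdeal y.asIdeal, h1]
  refine (Ideal.map_span _ _).trans ?_
  rw [Set.image_singleton]
  rfl

/-- the uniformizer as an element of the local ring at `x` -/
noncomputable def tt (ϖ : R) (x : X) : X.presheaf.stalk x :=
  X.presheaf.germ ⊤ x trivial (f.appTop.hom ((Scheme.ΓSpecIso (CommRingCat.of R)).inv ϖ))

omit [IsDomain R] [IsDiscreteValuationRing R] in
theorem tt_eq (ϖ : R) (x : X) : tt f ϖ x = (f.stalkMap x).hom (piS ϖ (f x)) := by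
  unfold tt piS
  exact (Scheme.Hom.germ_stalkMap_apply f ⊤ x trivial _).symm

omit [IsDomain R] [IsDiscreteValuationRing R] in
theorem specializes_tt (ϖ : R) {x z : X} (h : z ⤳ x) :
    (X.presheaf.stalkSpecializes h).hom (tt f ϖ x) = tt f ϖ z := by
  unfold tt
  exact TopCat.Presheaf.germ_stalkSpecializes_apply X.presheaf (U := ⊤) (y := x) trivial h _

theorem tt_mem_iff {ϖ : R} (hϖ : Irreducible ϖ) (x : X) :
    tt f ϖ x ∈ IsLocalRing.maximalIdeal (X.presheaf.stalk x) ↔ f x = IsLocalRing.closedPoint R := by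
  rw [tt_eq]
  have h0 : (f.stalkMap x).hom (piS ϖ (f x)) ∈ IsLocalRing.maximalIdeal (X.presheaf.stalk x) ↔
      piS ϖ (f x) ∈ IsLocalRing.maximalIdeal ((Spec (CommRingCat.of R)).presheaf.stalk (f x)) := by
    rw [IsLocalRing.mem_maximalIdeal, IsLocalRing.mem_maximalIdeal, mem_nonunits_iff,
      mem_nonunits_iff]
    exact not_congr (isUnit_map_iff (f.stalkMap x).hom _)
  rw [h0]
  generalize f x = y
  constructor
  · intro h
    by_contra hne
    have hy : y = genericPoint ↥(Spec (CommRingCat.of R)) := eq_genericPoint_of_ne R y hne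
    rw [maximalIdeal_stalk_genericPoint R y hy, Ideal.mem_bot] at h
    let k : Algebra R ((Spec (CommRingCat.of R)).presheaf.stalk y) :=
      StructureSheaf.stalkAlgebra R y
    have hp : y.asIdeal.IsPrime := PrimeSpectrum.isPrime y
    have : IsLocalization.AtPrime ((Spec (CommRingCat.of R)).presheaf.stalk y) y.asIdeal :=
      StructureSheaf.IsLocalization.to_stalk R y
    have h1 : algebraMap R ((Spec (CommRingCat.of R)).presheaf.stalk y) ϖ = 0 := h
    rw [IsLocalization.map_eq_zero_iff y.asIdeal.primeCompl] at h1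
    obtain ⟨m, hm⟩ := h1
    rcases mul_eq_zero.1 hm with h2 | h2
    · apply m.2
      rw [h2]
      exact y.asIdeal.zero_mem
    · exact hϖ.ne_zero h2
  · intro h
    rw [maximalIdeal_eq hϖ y h]
    exact Ideal.mem_span_singleton_self _

theorem tt_mem_primeOf_iff {ϖ : R} (hϖ : Irreducible ϖ) {x z : X} (h : z ⤳ x) :
    tt f ϖ x ∈ (primeOf h).asIdeal ↔ f z = IsLocalRing.closedPoint R := by
  rw [← tt_mem_iff f hϖ z, ← specializes_tt f ϖ h]
  rfl

theorem regular {F : X.Modules} (hflat : FlatMod.IsFlatOver f F) {ϖ : R} (hϖ : Irreducible ϖ) (x : X)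
    (hx : f x = IsLocalRing.closedPoint R) :
    IsSMulRegular (F.presheaf.stalk x) (tt f ϖ x) := by
  rw [tt_eq]
  let := FlatMod.moduleStalkOver f F x
  have h1 : Module.Flat ((Spec (CommRingCat.of R)).presheaf.stalk (f x))
    (F.presheaf.stalk x) := hflat x
  have h2 : IsSMulRegular (F.presheaf.stalk x) (piS ϖ (f x)) :=
    Module.Flat.isSMulRegular_of_nonZeroDivisors
      (pi_mem_nonZeroDivisors R hx (maximalIdeal_eq hϖ _ hx))
  exact h2

/-- The closure of a point of the generic fibre meets the closed fibre; a maximal point of the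
intersection. -/
theorem exists_closed_point (hcl : IsClosedMap f) (ζ' : X)
    (hy' : f ζ' = genericPoint ↥(Spec (CommRingCat.of R))) :
    ∃ ζ : X, ζ' ⤳ ζ ∧ f ζ = IsLocalRing.closedPoint R ∧
      ∀ x : X, ζ' ⤳ x → x ⤳ ζ → f x = IsLocalRing.closedPoint R → x = ζ := by
  obtain ⟨ϖ, hϖ⟩ := IsDiscreteValuationRing.exists_irreducible R
  have h1 : (IsLocalRing.closedPoint R : ↥(Spec (CommRingCat.of R))) ∈ f '' closure {ζ'} := by
    have h2 : IsClosed (f '' closure {ζ'}) := hcl _ isClosed_closure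
    have h3 : genericPoint ↥(Spec (CommRingCat.of R)) ∈ f '' closure {ζ'} :=
      ⟨ζ', subset_closure rfl, hy'⟩
    have h4 : genericPoint ↥(Spec (CommRingCat.of R)) ⤳
        (IsLocalRing.closedPoint R : ↥(Spec (CommRingCat.of R))) := 
      genericPoint_specializes (α := ↥(Spec (CommRingCat.of R))) _
    exact h4.mem_closed h2 h3
  obtain ⟨x₀, hx₀, hfx₀⟩ := h1
  have hs0 : ζ' ⤳ x₀ := specializes_iff_mem_closure.2 hx₀
  have hle : (primeOf hs0).asIdeal ⊔ Ideal.span {tt f ϖ x₀} ≤
      IsLocalRing.maximalIdeal (X.presheaf.stalk x₀) := by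
    refine sup_le (IsLocalRing.le_maximalIdeal (primeOf hs0).2.ne_top) ?_
    rw [Ideal.span_singleton_le_iff_mem, tt_mem_iff f hϖ]
    exact hfx₀
  obtain ⟨P, hP, -⟩ := Ideal.exists_minimalPrimes_le hle
  let Q : PrimeSpectrum (X.presheaf.stalk x₀) := ⟨P, hP.1.1⟩
  have hQ : primeOf (ptOf_specializes Q) = Q := primeOf_ptOf Q
  have h4 : ζ' ⤳ ptOf Q := by
    rw [← primeOf_le_iff hs0 (ptOf_specializes Q), hQ]
    exact le_sup_left.trans hP.1.2
  have h5 : f (ptOf Q) = IsLocalRing.closedPoint R := by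
    rw [← tt_mem_primeOf_iff f hϖ (ptOf_specializes Q), hQ]
    exact hP.1.2 (Ideal.mem_sup_right (Ideal.mem_span_singleton_self _))
  refine ⟨ptOf Q, h4, h5, ?_⟩
  intro x hx1 hx2 hx3
  have hx4 : x ⤳ x₀ := hx2.trans (ptOf_specializes Q)
  have h6 : primeOf hx4 ≤ Q := by
    rw [← hQ, primeOf_le_iff]; exact hx2
  have h7 : Q ≤ primeOf hx4 := by
    refine hP.2 ⟨(primeOf hx4).2, sup_le ?_ ?_⟩ h6
    · exact (primeOf_le_iff hs0 hx4).2 hx1
    · rw [Ideal.span_singleton_le_iff_mem, tt_mem_primeOf_iff f hϖ]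
      exact hx3
  rw [← ptOf_primeOf hx4, le_antisymm h6 h7]

variable [IsLocallyNoetherian X] {F}

include F in
theorem mem_ass_quot (hF : Coh.IsCoh F) (hflat : FlatMod.IsFlatOver f F) {ϖ : R} (hϖ : Irreducible ϖ)
    {ζ' ζ : X} (hζ' : IsMaxPt F ζ') (h : ζ' ⤳ ζ) (hζ : f ζ = IsLocalRing.closedPoint R)
    (hmin : ∀ x : X, ζ' ⤳ x → x ⤳ ζ → f x = IsLocalRing.closedPoint R → x = ζ) :
    IsLocalRing.maximalIdeal (X.presheaf.stalk ζ) ∈ associatedPrimes (X.presheaf.stalk ζ)
      (QuotSMulTop (tt f ϖ ζ) (F.presheaf.stalk ζ)) := by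
  have hfin := Groth.Agent.CycB.StalkLoc.finite_stalk F hF ζ
  refine Groth.Agent.Ega4C.AssQuot.mem_associatedPrimes_quotSMulTop (regular f hflat hϖ ζ hζ)
    (mem_associatedPrimes hF h hζ') ?_
  refine ⟨⟨(IsLocalRing.maximalIdeal.isMaximal _).isPrime, sup_le
    (IsLocalRing.le_maximalIdeal (primeOf h).2.ne_top) ?_⟩, ?_⟩
  · rw [Ideal.span_singleton_le_iff_mem, tt_mem_iff f hϖ]
    exact hζ
  · rintro q ⟨hq, hle⟩ -
    let Q : PrimeSpectrum (X.presheaf.stalk ζ) := ⟨q, hq⟩
    have hQ : primeOf (ptOf_specializes Q) = Q := primeOf_ptOf Q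
    have h1 : ζ' ⤳ ptOf Q := by
      rw [← primeOf_le_iff h (ptOf_specializes Q), hQ]
      exact le_sup_left.trans hle
    have h2 : f (ptOf Q) = IsLocalRing.closedPoint R := by
      rw [← tt_mem_primeOf_iff f hϖ (ptOf_specializes Q), hQ]
      exact hle (Ideal.mem_sup_right (Ideal.mem_span_singleton_self _))
    have h3 := hmin _ h1 (ptOf_specializes Q) h2
    have h4 : Q = IsLocalRing.closedPoint (X.presheaf.stalk ζ) := by
      rw [← primeOf_refl, ← hQ, primeOf_inj]
      exact h3
    exact (congrArg PrimeSpectrum.asIdeal h4).ge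

theorem mem_Ass_fiber (hF : Coh.IsCoh F) (hflat : FlatMod.IsFlatOver f F)
    {y : ↥(Spec (CommRingCat.of R))} (hy : y = IsLocalRing.closedPoint R)
    {ζ' : X} (hζ' : IsMaxPt F ζ') (z : f.fiber y)
    (h : ζ' ⤳ f.fiberι _ z)
    (hmin : ∀ x : X, ζ' ⤳ x → x ⤳ f.fiberι _ z → f x = IsLocalRing.closedPoint R →
      x = f.fiberι _ z) :
    z ∈ AssSch.Ass ((Scheme.Modules.pullback (f.fiberι y)).obj F) := by
  obtain ⟨ϖ, hϖ⟩ := IsDiscreteValuationRing.exists_irreducible R
  rw [Groth.Agent.Fdesc.AssFlat.mem_Ass_fiber_iff]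
  have hz : f (f.fiberι _ z) = IsLocalRing.closedPoint R := (apply_fiberι f _ z).trans hy
  have h1 := mem_ass_quot f hF hflat hϖ hζ' h hz hmin
  unfold Groth.Agent.Fdesc.AssFlat.FibAss
  have h2 : (IsLocalRing.maximalIdeal ((Spec (CommRingCat.of R)).presheaf.stalk
      (f (f.fiberι _ z)))).map (f.stalkMap (f.fiberι _ z)).hom =
      Ideal.span {tt f ϖ (f.fiberι _ z)} := by
    rw [maximalIdeal_eq hϖ _ hz, Ideal.map_span, Set.image_singleton, tt_eq]
  have h3 : Ideal.span {tt f ϖ (f.fiberι _ z)} • (⊤ : Submodule (X.presheaf.stalk (f.fiberι _ z))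
      (F.presheaf.stalk (f.fiberι _ z))) = tt f ϖ (f.fiberι _ z) • ⊤ :=
    Submodule.ideal_span_singleton_smul _ _
  have h4 := (Submodule.quotEquivOfEq _ _ ((congrArg (fun I : Ideal _ => I • (⊤ : Submodule
    (X.presheaf.stalk (f.fiberι _ z)) (F.presheaf.stalk (f.fiberι _ z)))) h2).trans h3))
  rw [LinearEquiv.AssociatedPrimes.eq h4]
  exact h1

variable {y : ↥(Spec (CommRingCat.of R))}

omit [IsLocallyNoetherian X] in
theorem length_closed (hy : y = IsLocalRing.closedPoint R) {ϖ : R} (hϖ : Irreducible ϖ)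
    (z : f.fiber y) :
    Module.length ((f.fiber y).presheaf.stalk z)
      (((Scheme.Modules.pullback (f.fiberι y)).obj F).presheaf.stalk z) =
    Module.length (X.presheaf.stalk (f.fiberι _ z)) (F.presheaf.stalk (f.fiberι _ z) ⧸
      (tt f ϖ (f.fiberι _ z) •
        (⊤ : Submodule (X.presheaf.stalk (f.fiberι _ z)) (F.presheaf.stalk (f.fiberι _ z))))) := by
  subst hy
  rw [length_stalk_closed f F z (maximalIdeal_eq hϖ _ (apply_fiberι f _ z)), tt_eq]

omit [IsLocallyNoetherian X] in
theorem nontrivial_closed_iff (hF : Coh.IsCoh F) (hy : y = IsLocalRing.closedPoint R)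
    (z : f.fiber y) :
    Nontrivial (((Scheme.Modules.pullback (f.fiberι y)).obj F).presheaf.stalk z) ↔
      Nontrivial (F.presheaf.stalk (f.fiberι _ z)) := by
  obtain ⟨ϖ, hϖ⟩ := IsDiscreteValuationRing.exists_irreducible R
  have hfin := Groth.Agent.CycB.StalkLoc.finite_stalk F hF (f.fiberι _ z)
  have hz : f (f.fiberι _ z) = IsLocalRing.closedPoint R := (apply_fiberι f _ z).trans hy
  rw [← not_iff_not, not_nontrivial_iff_subsingleton, not_nontrivial_iff_subsingleton,
    ← Module.length_eq_zero_iff (R := (f.fiber y).presheaf.stalk z), length_closed f hy hϖ z,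
    Module.length_eq_zero_iff, Submodule.Quotient.subsingleton_iff]
  constructor
  · intro h
    have h1 : (⊤ : Submodule (X.presheaf.stalk (f.fiberι _ z)) (F.presheaf.stalk (f.fiberι _ z))) ≤
        Ideal.span {tt f ϖ (f.fiberι _ z)} • ⊤ := by
      rw [Submodule.ideal_span_singleton_smul, h]
    have h2 := Submodule.eq_bot_of_le_smul_of_le_jacobson_bot _ _ hfin.fg_top h1 (by
      rw [IsLocalRing.jacobson_eq_maximalIdeal _ bot_ne_top, Ideal.span_singleton_le_iff_mem,
        tt_mem_iff f hϖ]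
      exact hz)
    exact (Submodule.subsingleton_iff_eq_bot.2 h2) |> fun h3 =>
      ⟨fun a b => congrArg Subtype.val (@Subsingleton.elim _ h3 ⟨a, trivial⟩ ⟨b, trivial⟩)⟩
  · intro h
    exact Subsingleton.elim _ _

omit [IsLocallyNoetherian X] [IsDiscreteValuationRing R] in
theorem nontrivial_generic_iff {y' : ↥(Spec (CommRingCat.of R))} (hy' : y' = genericPoint _)
    (v : f.fiber y') :
    Nontrivial (((Scheme.Modules.pullback (f.fiberι y')).obj F).presheaf.stalk v) ↔
      Nontrivial (F.presheaf.stalk (f.fiberι _ v)) := by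
  subst hy'
  rw [← not_iff_not, not_nontrivial_iff_subsingleton, not_nontrivial_iff_subsingleton,
    ← Module.length_eq_zero_iff (R := (f.fiber _).presheaf.stalk v), length_stalk_generic f F v,
    Module.length_eq_zero_iff]

omit [IsLocallyNoetherian X] [IsDiscreteValuationRing R] in
theorem isMaxPt_of_generic {y' : ↥(Spec (CommRingCat.of R))} (hy' : y' = genericPoint _)
    (v : f.fiber y') (hv : IsMaxPt ((Scheme.Modules.pullback (f.fiberι y')).obj F) v) :
    IsMaxPt F (f.fiberι _ v) := by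
  refine ⟨(nontrivial_generic_iff f hy' v).1 hv.1, ?_⟩
  intro w hw hwv
  have h1 : f w ⤳ y' := by
    have := hwv.map f.continuous
    rwa [apply_fiberι] at this
  have h2 : f w = y' := by
    subst hy'
    exact (h1.antisymm (genericPoint_specializes _)).eq
  obtain ⟨w', rfl⟩ : w ∈ Set.range (f.fiberι y') := by
    rw [f.range_fiberι]; exact h2
  rw [hv.2 w' ((nontrivial_generic_iff f hy' w').2 hw)
    ((f.fiberι y').isEmbedding.isInducing.specializes_iff.1 hwv)]

end DVR

section NoEmb

variable {W : Scheme.{u}} [IsLocallyNoetherian W] {G : W.Modules}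

theorem isMaxPt_of_mem_ass (hG : Coh.IsCoh G) (hne : AssSch.NoEmbedded G) {z : W}
    (hz : z ∈ AssSch.Ass G) : IsMaxPt G z := by
  have hnt : Nontrivial (G.presheaf.stalk z) := by
    obtain ⟨-, m, hm⟩ := isAssociatedPrime_iff.1 hz
    by_contra hc
    rw [not_nontrivial_iff_subsingleton] at hc
    have : m = 0 := Subsingleton.elim _ _
    subst this
    apply (IsLocalRing.maximalIdeal.isMaximal (W.presheaf.stalk z)).ne_top
    rw [hm, eq_top_iff]
    intro a _
    rw [Submodule.mem_colon_singleton, smul_zero]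
    exact zero_mem _
  refine ⟨hnt, ?_⟩
  intro w hw hwz
  obtain ⟨w₀, h1, h2⟩ := exists_isMaxPt hG w hw
  have h3 : w₀ ∈ AssSch.Ass G := by
    refine Groth.Agent.S1577.result W G hG.1 w₀ (not_subsingleton_iff_nontrivial.2 h2.1) ?_
    intro y hy hyw
    exact h2.2 y (not_subsingleton_iff_nontrivial.1 hy) hyw
  have h4 : z = w₀ := hne z hz w₀ h3 (h1.trans hwz)
  subst h4
  exact (hwz.antisymm h1).eq

end NoEmb

section Final

variable {R : Type u} [CommRing R] [IsDomain R] [IsDiscreteValuationRing R]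
  {X : Scheme.{u}} (f : X ⟶ Spec (CommRingCat.of R)) {F : X.Modules} [IsLocallyNoetherian X]
  {y y' : ↥(Spec (CommRingCat.of R))}

/-- For every maximal point `v` of the support of `F` in the generic fibre there is a maximal point
of the support of `F` in the closed fibre to which `v` specializes. -/
theorem exists_specialization (hcl : IsClosedMap f) (hF : Coh.IsCoh F)
    (hFy : Coh.IsCoh ((Scheme.Modules.pullback (f.fiberι y)).obj F))
    [IsLocallyNoetherian (f.fiber y)]
    (hflat : FlatMod.IsFlatOver f F) (hy : y = IsLocalRing.closedPoint R)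
    (hy' : y' = genericPoint _)
    (hemb : AssSch.NoEmbedded ((Scheme.Modules.pullback (f.fiberι y)).obj F))
    (v : f.fiber y') (hv : IsMaxPt ((Scheme.Modules.pullback (f.fiberι y')).obj F) v) :
    ∃ z : f.fiber y, IsMaxPt ((Scheme.Modules.pullback (f.fiberι y)).obj F) z ∧
      f.fiberι y' v ⤳ f.fiberι y z := by
  have hv' := isMaxPt_of_generic f hy' v hv
  obtain ⟨ζ, h1, h2, h3⟩ := exists_closed_point f hcl (f.fiberι y' v)
    ((apply_fiberι f _ v).trans hy')
  obtain ⟨z, rfl⟩ : ζ ∈ Set.range (f.fiberι y) := by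
    rw [f.range_fiberι, hy]; exact h2
  exact ⟨z, isMaxPt_of_mem_ass hFy hemb (mem_Ass_fiber f hF hflat hy hv' z h1 h3), h1⟩

/-- The sum of the lengths at the generizations in the generic fibre is at most the length in the
closed fibre. -/
theorem sum_length_le (hF : Coh.IsCoh F)
    (hflat : FlatMod.IsFlatOver f F) (hy : y = IsLocalRing.closedPoint R)
    (hy' : y' = genericPoint _)
    (z : f.fiber y) (hz : IsMaxPt ((Scheme.Modules.pullback (f.fiberι y)).obj F) z)
    (T : Finset (f.fiber y')) (hT : ∀ v ∈ T, f.fiberι y' v ⤳ f.fiberι y z) :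
    ∑ v ∈ T, Module.length ((f.fiber y').presheaf.stalk v)
      (((Scheme.Modules.pullback (f.fiberι y')).obj F).presheaf.stalk v) ≤
    Module.length ((f.fiber y).presheaf.stalk z)
      (((Scheme.Modules.pullback (f.fiberι y)).obj F).presheaf.stalk z) := by
  classical
  obtain ⟨ϖ, hϖ⟩ := IsDiscreteValuationRing.exists_irreducible R
  have hfin := Groth.Agent.CycB.StalkLoc.finite_stalk F hF (f.fiberι _ z)
  have hfz : f (f.fiberι _ z) = IsLocalRing.closedPoint R := (apply_fiberι f _ z).trans hy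
  rw [length_closed f hy hϖ z]
  let T' : Finset (PrimeSpectrum (X.presheaf.stalk (f.fiberι y z))) :=
    T.attach.image (fun v => primeOf (hT v.1 v.2))
  have hinj : ∀ a ∈ T.attach, ∀ b ∈ T.attach, primeOf (hT a.1 a.2) = primeOf (hT b.1 b.2) → a = b := by
    intro a _ b _ hab
    rw [primeOf_inj] at hab
    exact Subtype.ext ((f.fiberι y').isEmbedding.injective hab)
  have hsum : ∑ v ∈ T, Module.length ((f.fiber y').presheaf.stalk v)
      (((Scheme.Modules.pullback (f.fiberι y')).obj F).presheaf.stalk v) =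
      ∑ p ∈ T', locLen p (F.presheaf.stalk (f.fiberι y z)) := by
    rw [Finset.sum_image hinj, ← Finset.sum_attach]
    refine Finset.sum_congr rfl fun v _ => ?_
    rw [locLen_stalk F hF.1 (hT v.1 v.2)]
    subst hy'
    exact length_stalk_generic f F v.1
  rw [hsum]
  refine LenIneqAlg.sum_locLen_le ((tt_mem_iff f hϖ _).2 hfz) (regular f hflat hϖ _ hfz) ?_ T' ?_
  · intro p hp htp
    have hP : primeOf (ptOf_specializes p) = p := primeOf_ptOf p
    have h1 : Nontrivial (F.presheaf.stalk (ptOf p)) := by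
      rw [← mem_support_stalk_iff F hF.1 (ptOf_specializes p), hP]
      exact hp
    have h2 : f (ptOf p) = IsLocalRing.closedPoint R := by
      rw [← tt_mem_primeOf_iff f hϖ (ptOf_specializes p), hP]
      exact htp
    obtain ⟨w, hw⟩ : ptOf p ∈ Set.range (f.fiberι y) := by
      rw [f.range_fiberι]; exact h2.trans hy.symm
    have h3 : w ⤳ z := by
      rw [← (f.fiberι y).isEmbedding.isInducing.specializes_iff, hw]
      exact ptOf_specializes p
    have h4 : w = z := by
      refine hz.2 w ((nontrivial_closed_iff f hF hy w).2 ?_) h3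
      rw [hw]
      exact h1
    have h5 : p = IsLocalRing.closedPoint (X.presheaf.stalk (f.fiberι y z)) := by
      rw [← primeOf_refl, ← hP, primeOf_inj, ← hw, h4]
    rw [h5]
    rfl
  · intro p hp hpm
    obtain ⟨v, -, rfl⟩ := Finset.mem_image.1 hp
    have h1 : primeOf (hT v.1 v.2) = primeOf (specializes_refl _) := by
      rw [primeOf_refl]
      exact PrimeSpectrum.ext hpm
    rw [primeOf_inj] at h1
    have h2 : y' = y := by
      rw [← apply_fiberι f y' v.1, h1, apply_fiberι f y z]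
    rw [hy, hy'] at h2
    exact genericPoint_ne_closedPoint R h2

end Final

end K891.LenIneq
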