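import Groth.Agent.Sga3.H826.DvrExt

/-!
# Complete discrete valuation rings over a given extension of the residue field

Every discrete valuation ring `A`, together with a field extension `K` of its residue field, has a
faithfully flat local extension `A → B` with `B` a complete discrete valuation ring whose residue
field is algebraically closed and contains `K`.
-/

set_option autoImplicit false
universe u

namespace K891.CplDvrExt

open IsLocalRing Groth.Agent.Sga3.H826.DvrExt

theorem exists_complete (A : Type u) [CommRing A] [IsDomain A] [IsDiscreteValuationRing A]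
    (K : Type u) [Field K] (σ : ResidueField A →+* K) :
    ∃ (B : Type u) (_ : CommRing B) (_ : IsDomain B) (_ : IsDiscreteValuationRing B)
      (φ : A →+* B) (e : K →+* ResidueField B),
        IsAdicComplete (maximalIdeal B) B ∧ IsAlgClosed (ResidueField B) ∧
        Function.Injective φ ∧
        e.comp (σ.comp (residue A)) = (residue B).comp φ := by
  let L := AlgebraicClosure K
  let _ : Algebra (ResidueField A) L := ((algebraMap K L).comp σ).toAlgebra
  obtain ⟨B₁, _, _, _, _, _, _, e, he⟩ := Groth.Agent.S2363.result (A := A) L
  obtain ⟨ϖ, hϖ⟩ := IsDiscreteValuationRing.exists_irreducible A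
  have hm : maximalIdeal A = Ideal.span {ϖ} := hϖ.maximalIdeal_eq
  have hmB : maximalIdeal B₁ = (maximalIdeal A).map (algebraMap A B₁) := by
    have h1 : ((maximalIdeal A).map (algebraMap A B₁)).IsMaximal := by
      rw [Ideal.Quotient.maximal_ideal_iff_isField_quotient]
      exact e.toMulEquiv.isField (Field.toIsField L)
    exact (IsLocalRing.eq_maximalIdeal h1).symm
  have hmB' : maximalIdeal B₁ = Ideal.span {algebraMap A B₁ ϖ} := by
    rw [hmB, hm, Ideal.map_span, Set.image_singleton]
  have hnz : algebraMap A B₁ ϖ ∈ nonZeroDivisors B₁ := by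
    have h1 : IsSMulRegular B₁ ϖ :=
      Module.Flat.isSMulRegular_of_nonZeroDivisors (mem_nonZeroDivisors_of_ne_zero hϖ.ne_zero)
    rw [mem_nonZeroDivisors_iff_right]
    intro x hx
    apply h1
    change ϖ • x = ϖ • 0
    rw [smul_zero, Algebra.smul_def, _root_.mul_comm]
    exact hx
  obtain ⟨_, _⟩ := isDVR_of_span B₁ _ hmB' hnz
  let e' : ResidueField B₁ ≃+* L := (Ideal.quotEquivOfEq hmB).trans e
  have hac : IsAlgClosed (ResidueField B₁) := IsAlgClosed.of_ringEquiv _ _ e'.symm
  have he' : ∀ a : A, e' (residue B₁ (algebraMap A B₁ a)) =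
      algebraMap K L (σ (residue A a)) := fun a => he a
  let B := AdicCompletion (maximalIdeal B₁) B₁
  obtain ⟨_, _⟩ := (Groth.Agent.S0549.result B₁).1 ⟨inferInstance, inferInstance⟩
  have : IsLocalHom (algebraMap B₁ B) := inferInstance
  have hf : Module.Flat B₁ B := inferInstance
  have hinj1 : Function.Injective (algebraMap A B₁) := by
    have : Module.FaithfullyFlat A B₁ := Module.FaithfullyFlat.of_flat_of_isLocalHom
    exact FaithfulSMul.algebraMap_injective A B₁
  have hinj2 : Function.Injective (algebraMap B₁ B) := by
    have : Module.FaithfullyFlat B₁ B := Module.FaithfullyFlat.of_flat_of_isLocalHom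
    exact FaithfulSMul.algebraMap_injective B₁ B
  refine ⟨B, inferInstance, inferInstance, inferInstance, (algebraMap B₁ B).comp (algebraMap A B₁),
    (ResidueField.map (algebraMap B₁ B)).comp (e'.symm.toRingHom.comp (algebraMap K L)),
    inferInstance, ?_, ?_, ?_⟩
  · exact IsAlgClosed.of_ringEquiv _ _ (RingEquiv.ofBijective _
      (AdicCompletion.residueField_map_bijective B₁))
  · exact hinj2.comp hinj1
  · ext a
    have h1 : e'.symm (algebraMap K L (σ (residue A a))) = residue B₁ (algebraMap A B₁ a) := by
      rw [RingEquiv.symm_apply_eq]; exact (he' a).symm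
    change ResidueField.map (algebraMap B₁ B) (e'.symm (algebraMap K L (σ (residue A a)))) = _
    rw [h1]
    rfl

end K891.CplDvrExt
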