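import Groth.Agent.Ega4C.FinitePoint
import Groth.Agent.Ega4C.DimOneNormalization
import Groth.Agent.Ega43.DvrIntegral

/-!
# Quasi-finite discrete valuation rings through a point over a complete discrete valuation ring
-/

set_option autoImplicit false
universe u

namespace K891.DvrThrough

open IsLocalRing

/-- Over a complete discrete valuation ring `A`, let `D` be a Noetherian local `A`-algebra with
residue field that of `A` and `q` a prime of `D` not lying over the maximal ideal of `A`. Then
there is a discrete valuation ring `B`, finite over `A`, and a local `A`-homomorphism `D → B`. -/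
theorem exists_dvr (A D : Type u) [CommRing A] [IsDomain A] [IsDiscreteValuationRing A]
    [IsAdicComplete (maximalIdeal A) A] [CommRing D] [IsLocalRing D] [IsNoetherianRing D]
    [Algebra A D] [IsLocalHom (algebraMap A D)]
    (hres : Function.Surjective ((residue D).comp (algebraMap A D)))
    (q : Ideal D) [hq : q.IsPrime] (hqA : q.comap (algebraMap A D) ≠ maximalIdeal A) :
    ∃ (B : Type u) (_ : CommRing B) (_ : IsDomain B) (_ : IsDiscreteValuationRing B)
      (ψ : D →+* B), IsLocalHom ψ ∧ (ψ.comp (algebraMap A D)).Finite := by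
  obtain ⟨t, ht⟩ := IsDiscreteValuationRing.exists_irreducible A
  have hm : maximalIdeal A = Ideal.span {t} := ht.maximalIdeal_eq
  have htm : t ∈ maximalIdeal A := by rw [hm]; exact Ideal.mem_span_singleton_self t
  have htq : algebraMap A D t ∉ q := by
    intro h
    apply hqA
    symm
    apply (IsLocalRing.maximalIdeal.isMaximal A).eq_of_le
    · exact (hq.comap (algebraMap A D)).ne_top
    · rw [hm, Ideal.span_singleton_le_iff_mem]; exact h
  obtain ⟨Q, hQ, hqQ, htQ, hmax⟩ :=
    Groth.Agent.Ega4C.FinitePoint.exists_prime_maximal_notMem q (algebraMap A D t) htq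
  let E := D ⧸ Q
  have hE : IsDomain E := Ideal.Quotient.isDomain Q
  have hEl : IsLocalRing E := IsLocalRing.of_surjective' (Ideal.Quotient.mk Q) Ideal.Quotient.mk_surjective
  have hEn : IsNoetherianRing E := inferInstance
  have hEloc : IsLocalHom (Ideal.Quotient.mk Q) :=
    IsLocalHom.of_surjective _ Ideal.Quotient.mk_surjective
  have hloc : IsLocalHom (algebraMap A E) :=
    RingHom.isLocalHom_comp (Ideal.Quotient.mk Q) (algebraMap A D)
  have ht0 : algebraMap A E t ≠ 0 := by
    intro h
    exact htQ (Ideal.Quotient.eq_zero_iff_mem.1 h)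
  have htE : algebraMap A E t ∈ maximalIdeal E :=
    _root_.map_nonunit _ _ htm
  have hprime : ∀ p : Ideal E, p.IsPrime → p ≠ ⊥ → algebraMap A E t ∈ p := by
    intro p hp hp0
    have h1 : Q < p.comap (Ideal.Quotient.mk Q) := by
      refine lt_of_le_of_ne ?_ ?_
      · exact Ideal.mk_ker.symm.le.trans (Ideal.ker_le_comap _)
      · intro h
        apply hp0
        rw [eq_bot_iff]
        intro x hx
        obtain ⟨x, rfl⟩ := Ideal.Quotient.mk_surjective x
        have : x ∈ p.comap (Ideal.Quotient.mk Q) := hx
        rw [← h] at this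
        exact Ideal.Quotient.eq_zero_iff_mem.2 this
    exact hmax _ (hp.comap _) h1
  have hdim : Ring.DimensionLEOne E := by
    refine ⟨fun {p} hp0 hp => ?_⟩
    exact Groth.Agent.Ega43.DvrIntegral.isMaximal_of_forall_mem (algebraMap A E t) ht0 hprime p hp0 hp
  have hjac : (maximalIdeal A).map (algebraMap A E) ≤ Ideal.jacobson ⊥ := by
    rw [IsLocalRing.jacobson_eq_maximalIdeal ⊥ bot_ne_top]
    exact ((IsLocalRing.local_hom_TFAE (algebraMap A E)).out 0 2).1 hloc
  have hresE : ∀ n : Ideal E, n.IsMaximal → Module.Finite A (E ⧸ n) := by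
    intro n hn
    have hn' : n = maximalIdeal E := IsLocalRing.eq_maximalIdeal hn
    have hs : Function.Surjective (algebraMap A (E ⧸ n)) := by
      intro z
      obtain ⟨z, rfl⟩ := Ideal.Quotient.mk_surjective z
      obtain ⟨z, rfl⟩ := Ideal.Quotient.mk_surjective z
      obtain ⟨a, ha⟩ := hres (residue D z)
      refine ⟨a, ?_⟩
      have h1 : algebraMap A D a - z ∈ maximalIdeal D := by
        have : residue D (algebraMap A D a - z) = 0 := by
          rw [map_sub, sub_eq_zero]; exact ha
        rwa [residue_eq_zero_iff] at this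
      have h2 : Ideal.Quotient.mk Q (algebraMap A D a - z) ∈ n := by
        rw [hn']
        exact _root_.map_nonunit _ _ h1
      have h3 := Ideal.Quotient.eq_zero_iff_mem.2 h2
      rw [map_sub, map_sub, sub_eq_zero] at h3
      exact h3
    exact Module.Finite.of_surjective (Algebra.linearMap A (E ⧸ n)) hs
  have hfin : Module.Finite A E :=
    Groth.Agent.Ega4C.FinitePoint.finite_of_dimensionLEOne hjac hresE t htm ht0
  have hEcpl : IsAdicComplete (maximalIdeal E) E :=
    Groth.Agent.Ega4C.CplFinite.isAdicComplete_of_finite A E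
  have hnf : ¬ IsField E := by
    intro h
    have h1 := IsLocalRing.isField_iff_maximalIdeal_eq.1 h
    rw [h1] at htE
    exact ht0 (by simpa using htE)
  let K := FractionRing E
  let B := integralClosure E K
  have hB : IsDiscreteValuationRing B :=
    Groth.Agent.Ega4C.DimOneNormalization.isDiscreteValuationRing_integralClosure E K hnf
  have hBfin : Module.Finite E B :=
    Groth.Agent.Ega4C.DimOneNormalization.finite_integralClosure E K hnf
  have hEB : IsLocalHom (algebraMap E B) := by
    refine ((IsLocalRing.local_hom_TFAE (algebraMap E B)).out 0 4).2 ?_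
    have : ((maximalIdeal B).comap (algebraMap E B)).IsMaximal :=
      Ideal.isMaximal_comap_of_isIntegral_of_isMaximal _
    exact IsLocalRing.eq_maximalIdeal this
  refine ⟨B, inferInstance, inferInstance, hB, (algebraMap E B).comp (Ideal.Quotient.mk Q),
    RingHom.isLocalHom_comp _ _, ?_⟩
  have h1 : (algebraMap A E).Finite := RingHom.finite_algebraMap.2 hfin
  have h2 : (algebraMap E B).Finite := RingHom.finite_algebraMap.2 hBfin
  exact RingHom.Finite.comp (f := algebraMap A E) (g := algebraMap E B) h2 h1

end K891.DvrThrough
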