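import Groth.Agent.Divis.AmpleAvoid
import Groth.Agent.Flat2H.FamOpen
import Mathlib.AlgebraicGeometry.Morphisms.ClosedImmersion

/-!
# Lifting families from a closed subscheme after multiplication by a power of a section

Families `b_j ∈ Γ(X, W j)` with `b_i g_ij^n = b_j` are the sections of `L^n`.  For a closed immersion
`i : T ⟶ P` and a section `s` of `L^d` on `P` with affine non-vanishing locus, every section `u` of
`L^(d m)` on `T` lifts to `P` after multiplication by a large power of `s` (`exists_pow_lift`).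
-/

set_option autoImplicit false
universe u

open CategoryTheory AlgebraicGeometry TopologicalSpace Opposite

namespace K891.FamLift

open Groth.Agent.Fdesc.LocGen Groth.Agent.Flat2H.FamExt Groth.Agent.Flat2H.FamDict
open Groth.Agent.Divis.AmpleAvoid

variable {P T : Scheme.{u}} {ι : Type*}

theorem ores_app (i : T ⟶ P) {U V : P.Opens} (h : V ≤ U) (a : Γ(P, U)) :
    ores (i.preimage_mono h) (i.app U a) = i.app V (ores h a) :=
  (Groth.Agent.Flat2H.FamOpen.app_ores i h a).symm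

/-- The pulled back family. -/
theorem isFam_app (i : T ⟶ P) {W : ι → P.Opens} {g : ∀ i j, Γ(P, W i ⊓ W j)} {n : ℕ}
    {b : ∀ j, Γ(P, W j)} (hb : IsFam W (fun j k ↦ g j k ^ n) b) :
    IsFam (fun j ↦ i ⁻¹ᵁ W j) (fun j k ↦ i.app (W j ⊓ W k) (g j k) ^ n) (fun j ↦ i.app (W j) (b j)) := by
  have h := Groth.Agent.Flat2H.FamOpen.IsFam.app i hb
  refine IsFam.congr h fun j k ↦ ?_
  rw [map_pow]

theorem app_surjective (i : T ⟶ P) [IsClosedImmersion i] {U : P.Opens} (hU : IsAffineOpen U) :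
    Function.Surjective (i.app U) := by
  exact Scheme.Hom.app_surjective i U hU

/-- Families on the closed subscheme lift after multiplication by large powers of a section with
affine non-vanishing locus. -/
theorem exists_pow_lift (i : T ⟶ P) [IsClosedImmersion i] [Finite ι] [QuasiSeparatedSpace P]
    {W : ι → P.Opens} {g : ∀ i j, Γ(P, W i ⊓ W j)} (hg : ∀ j k, IsUnit (g j k))
    (haff : ∀ j, IsAffineOpen (W j)) {d : ℕ} {s : ∀ j, Γ(P, W j)}
    (hs : IsFam W (fun j k ↦ g j k ^ d) s) (hsa : IsAffineOpen (locus W s)) (m : ℕ)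
    (u : ∀ j, Γ(T, i ⁻¹ᵁ W j))
    (hu : IsFam (fun j ↦ i ⁻¹ᵁ W j) (fun j k ↦ i.app (W j ⊓ W k) (g j k) ^ (d * m)) u) :
    ∃ N : ℕ, ∀ n, N ≤ n → ∃ c : ∀ j, Γ(P, W j), IsFam W (fun j k ↦ g j k ^ (d * (m + n))) c ∧
      ∀ j, i.app (W j) (c j) = i.app (W j) (s j) ^ n * u j := by
  classical
  have hgT : ∀ j k, IsUnit (i.app (W j ⊓ W k) (g j k)) := fun j k ↦ (hg j k).map _
  have hs' := isFam_app i hs
  have hsm : IsFam (fun j ↦ i ⁻¹ᵁ W j) (fun j k ↦ i.app (W j ⊓ W k) (g j k) ^ (d * m))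
      (fun j ↦ i.app (W j) (s j) ^ m) :=
    IsFam.congr (isFam_pow hs' m) fun j k ↦ (pow_mul _ _ _).symm
  obtain ⟨r, hr⟩ := exists_ratio hsm (fun j k ↦ (hgT j k).pow _) hu
  -- the locus of `s` on `T`
  have hle : i ⁻¹ᵁ locus W s ≤ locus (fun j ↦ i ⁻¹ᵁ W j) (fun j ↦ i.app (W j) (s j) ^ m) := by
    intro y hy
    obtain ⟨j, hj⟩ := mem_locus.mp (show i y ∈ locus W s from hy)
    refine mem_locus.mpr ⟨j, ?_⟩
    have h1 : y ∈ T.basicOpen (i.app (W j) (s j)) := by
      rw [← Scheme.preimage_basicOpen]; exact hj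
    rcases Nat.eq_zero_or_pos m with rfl | hm
    · rw [pow_zero, Scheme.basicOpen_of_isUnit _ isUnit_one]
      exact T.basicOpen_le _ h1
    · rw [T.basicOpen_pow _ hm]; exact h1
  obtain ⟨F, hF⟩ := app_surjective i hsa (ores hle r)
  obtain ⟨m₀, hm₀⟩ := exists_fam_of_fun (g := fun j k ↦ g j k ^ d) haff hs F
  obtain ⟨c, hc, hc'⟩ := hm₀ (m₀ + m) (Nat.le_add_right _ _)
  -- comparison on the basic open
  have hcomp : ∀ j, ∃ n : ℕ, i.app (W j) (s j) ^ n * (i.app (W j) (c j) -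
      i.app (W j) (s j) ^ m₀ * u j) = 0 := by
    intro j
    apply res_zero_ext ((haff j).preimage i).isCompact
    have e1 : i.app (P.basicOpen (s j)) (ores (P.basicOpen_le _) (c j)) =
        i.app (P.basicOpen (s j)) (ores (P.basicOpen_le _) (s j)) ^ (m₀ + m) *
          i.app (P.basicOpen (s j)) (ores (basicOpen_le_locus s j) F) := by
      rw [hc' j, map_mul, map_pow]
    rw [← ores_app, ← ores_app, ← ores_app, hF] at e1
    have hbo : T.basicOpen (i.app (W j) (s j)) ≤ i ⁻¹ᵁ P.basicOpen (s j) := by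
      rw [← Scheme.preimage_basicOpen]
    have e2 := congrArg (ores hbo) e1
    simp only [map_mul, map_pow, ores_ores] at e2
    have hbm : T.basicOpen (i.app (W j) (s j)) ≤ T.basicOpen (i.app (W j) (s j) ^ m) := by
      rcases Nat.eq_zero_or_pos m with rfl | hm
      · rw [pow_zero, Scheme.basicOpen_of_isUnit _ isUnit_one]
        exact T.basicOpen_le _
      · rw [T.basicOpen_pow _ hm]
    have e3 := congrArg (ores hbm) (hr j)
    simp only [map_mul, map_pow, ores_ores] at e3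
    rw [map_sub, map_mul, map_pow, sub_eq_zero, e2, ← e3, pow_add]
    ring
  choose n hn using hcomp
  obtain ⟨N', hN'⟩ : ∃ N' : ℕ, ∀ j, n j ≤ N' := by
    cases nonempty_fintype ι
    exact ⟨Finset.univ.sup n, fun j ↦ Finset.le_sup (Finset.mem_univ j)⟩
  refine ⟨N' + m₀, fun k hk ↦ ?_⟩
  obtain ⟨q, rfl⟩ := Nat.exists_eq_add_of_le hk
  refine ⟨fun j ↦ s j ^ (N' + q) * c j, ?_, fun j ↦ ?_⟩
  · refine IsFam.congr (isFam_mul (isFam_pow hs (N' + q)) hc) fun j k ↦ ?_
    rw [← pow_mul, ← pow_mul, ← pow_add]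
    congr 1
    ring
  · rw [map_mul, map_pow]
    have h1 : i.app (W j) (s j) ^ (N' + q) * (i.app (W j) (c j) -
      i.app (W j) (s j) ^ m₀ * u j) = 0 := by
      obtain ⟨e, he⟩ := Nat.exists_eq_add_of_le (hN' j)
      rw [he, show n j + e + q = (e + q) + n j by ring, pow_add, mul_assoc, hn j, mul_zero]
    rw [mul_sub, sub_eq_zero] at h1
    rw [h1, ← mul_assoc, ← pow_add]
    congr 2
    ring

end K891.FamLift
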