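import Groth.Agent.EGA43.K891.FamLift1
import Groth.Agent.Picfga.KoszulFam
import Groth.Agent.Picfga.FamProj

/-!
# Lifting sections from a proper closed subscheme

Let `P` be a scheme over a Noetherian ring with an ample `L` and `i : T ⟶ P` a closed subscheme which
is proper over the ring.  For large `m` every section of `L^(d m)` on `T` lifts to a section on `P`
with affine non-vanishing locus (`exists_lift`).
-/

set_option autoImplicit false
universe u

open CategoryTheory AlgebraicGeometry TopologicalSpace Opposite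

namespace K891.FamLift

open Groth.Agent.Fdesc.LocGen Groth.Agent.Flat2H.FamExt Groth.Agent.Flat2H.FamDict
open Groth.Agent.Divis.AmpleAvoid
open Groth.Agent.Picfga.Level (Fam str ores_str)

variable {P T : Scheme.{u}} {ι : Type u}

/-- Finitely many sections of one power of an ample module with affine loci covering the scheme. -/
theorem exists_cover {W : ι → P.Opens} {g : ∀ i j, Γ(P, W i ⊓ W j)} {L : P.Modules}
    (hT : Trivs L W g) (hL : CohB1.IsAmple L) :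
    ∃ (r d : ℕ) (s : Fin r → ∀ j, Γ(P, W j)), 0 < d ∧ (∀ l, IsFam W (fun i j ↦ g i j ^ d) (s l)) ∧
      (∀ l, IsAffineOpen (locus W (s l))) ∧ ∀ x : P, ∃ l, x ∈ locus W (s l) := by
  obtain ⟨hc, hx⟩ := hT.isAmple_iff.1 hL
  choose n b hb hxb haff using hx
  obtain ⟨t, ht⟩ := isCompact_univ.elim_finite_subcover (fun x : P ↦ (locus W (b x) : Set P))
    (fun x ↦ (locus W (b x)).isOpen) (fun x _ ↦ Set.mem_iUnion.2 ⟨x, hxb x⟩)
  let d : ℕ := ∏ x ∈ t, (n x + 1)
  have hd : 0 < d := Finset.prod_pos fun x _ ↦ Nat.succ_pos _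
  have hdvd : ∀ x : t, (n x.1 + 1) ∣ d := fun x ↦ Finset.dvd_prod_of_mem _ x.2
  let f : Fin t.card ≃ t := t.equivFin.symm
  choose q hq using hdvd
  have hq0 : ∀ x : t, 0 < q x := by
    intro x
    rcases Nat.eq_zero_or_pos (q x) with h | h
    · exfalso
      have h1 := hq x
      rw [h, mul_zero] at h1
      omega
    · exact h
  refine ⟨t.card, d, fun l j ↦ b (f l).1 j ^ q (f l), hd, fun l ↦ ?_, fun l ↦ ?_, fun x ↦ ?_⟩
  · refine IsFam.congr (isFam_pow (hb (f l).1) (q (f l))) fun i j ↦ ?_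
    rw [← pow_mul, ← hq]
  · have := locus_pow (W := W) (b (f l).1) (hq0 (f l))
    rw [this]
    exact haff _
  · obtain ⟨y, hy, hx⟩ := Set.mem_iUnion₂.1 (ht (Set.mem_univ x))
    refine ⟨f.symm ⟨y, hy⟩, ?_⟩
    have := locus_pow (W := W) (b (f (f.symm ⟨y, hy⟩)).1) (hq0 (f (f.symm ⟨y, hy⟩)))
    rw [this]
    simpa using hx

section lift

variable {R : Type u} [CommRing R] (i : T ⟶ P) (W : ι → P.Opens) (g : ∀ i j, Γ(P, W i ⊓ W j))

/-- The family `u` of degree `K` on `T` lifts to `P`. -/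
def Lft (K : ℕ) (u : ∀ j, Γ(T, i ⁻¹ᵁ W j)) : Prop :=
  ∃ c : ∀ j, Γ(P, W j), IsFam W (fun j k ↦ g j k ^ K) c ∧ ∀ j, i.app (W j) (c j) = u j

variable {i W g}

theorem Lft.zero (K : ℕ) : Lft i W g K (fun _ ↦ 0) := ⟨fun _ ↦ 0, isFam_zero, fun _ ↦ map_zero _⟩

theorem Lft.add {K : ℕ} {u v : ∀ j, Γ(T, i ⁻¹ᵁ W j)} (hu : Lft i W g K u) (hv : Lft i W g K v) :
    Lft i W g K (fun j ↦ u j + v j) := by
  obtain ⟨c, hc, hcu⟩ := hu
  obtain ⟨e, he, hev⟩ := hv
  exact ⟨fun j ↦ c j + e j, isFam_add hc he, fun j ↦ by rw [map_add, hcu, hev]⟩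

theorem Lft.sum {κ : Type*} (S : Finset κ) {K : ℕ} {u : κ → ∀ j, Γ(T, i ⁻¹ᵁ W j)}
    (hu : ∀ k ∈ S, Lft i W g K (u k)) : Lft i W g K (fun j ↦ ∑ k ∈ S, u k j) := by
  classical
  induction S using Finset.induction_on with
  | empty => simpa using Lft.zero K
  | insert a S ha ih =>
    have h1 := Lft.add (hu a (Finset.mem_insert_self _ _))
      (ih fun k hk ↦ hu k (Finset.mem_insert_of_mem hk))
    simpa only [Finset.sum_insert ha] using h1

theorem Lft.mul {K d K' : ℕ} {s : ∀ j, Γ(P, W j)} (hs : IsFam W (fun j k ↦ g j k ^ d) s)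
    {u : ∀ j, Γ(T, i ⁻¹ᵁ W j)} (hu : Lft i W g K u) (hK : K' = d + K) :
    Lft i W g K' (fun j ↦ i.app (W j) (s j) * u j) := by
  obtain ⟨c, hc, hcu⟩ := hu
  refine ⟨fun j ↦ s j * c j, IsFam.congr (isFam_mul hs hc) fun j k ↦ ?_, fun j ↦ by rw [map_mul, hcu]⟩
  rw [hK, pow_add]

theorem Lft.congr {K : ℕ} {u v : ∀ j, Γ(T, i ⁻¹ᵁ W j)} (hu : Lft i W g K u) (h : ∀ j, u j = v j) :
    Lft i W g K v := by
  obtain ⟨c, hc, hcu⟩ := hu
  exact ⟨c, hc, fun j ↦ (hcu j).trans (h j)⟩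

theorem app_str (aP : P ⟶ Spec (CommRingCat.of R)) (U : P.Opens) (r : R) :
    i.app U (str aP U r) = str (i ≫ aP) (i ⁻¹ᵁ U) r := by
  change (aP.appLE ⊤ U le_top ≫ i.app U).hom _ = ((i ≫ aP).appLE ⊤ (i ⁻¹ᵁ U) le_top).hom _
  rw [Scheme.Hom.app_eq_appLE, Scheme.Hom.appLE_comp_appLE]

theorem Lft.smul (aP : P ⟶ Spec (CommRingCat.of R)) (r : R) {K : ℕ} {u : ∀ j, Γ(T, i ⁻¹ᵁ W j)}
    (hu : Lft i W g K u) : Lft i W g K (fun j ↦ str (i ≫ aP) (i ⁻¹ᵁ W j) r * u j) := by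
  obtain ⟨c, hc, hcu⟩ := hu
  exact ⟨fun j ↦ str aP (W j) r * c j, Groth.Agent.Picfga.Level.IsFam.str_mul aP r hc, fun j ↦ by
    rw [map_mul, hcu, app_str]⟩

/-- A sum `∑ s_l v_l` of positive degree, where the `s_l` have affine loci, has affine locus. -/
theorem isAffineOpen_locus_sum {κ : Type*} [Fintype κ] {d e : ℕ}
    (hg : ∀ j k, IsUnit (g j k)) (hW : ∀ x : P, ∃ j, x ∈ W j)
    {s v : κ → ∀ j, Γ(P, W j)} (hs : ∀ l, IsFam W (fun j k ↦ g j k ^ d) (s l))
    (hsa : ∀ l, IsAffineOpen (locus W (s l))) (hv : ∀ l, IsFam W (fun j k ↦ g j k ^ (d * e)) (v l)) :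
    IsAffineOpen (locus W (fun j ↦ ∑ l, s l j * v l j)) := by
  classical
  set c : ∀ j, Γ(P, W j) := fun j ↦ ∑ l, s l j * v l j with hcdef
  have hsv : ∀ l, IsFam W (fun j k ↦ g j k ^ (d * (e + 1))) (fun j ↦ s l j * v l j) := fun l ↦
    IsFam.congr (isFam_mul (hs l) (hv l)) fun j k ↦ by rw [← pow_add]; congr 1; ring
  have hc : IsFam W (fun j k ↦ g j k ^ (d * (e + 1))) c := isFam_sum _ _ fun l _ ↦ hsv l
  have hu : ∀ (n : ℕ) j k, IsUnit (g j k ^ n) := fun n j k ↦ (hg j k).pow n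
  choose a ha using fun l ↦ exists_ratio hc (hu _) (hsv l)
  refine isAffineOpen_of_isAffineOpen_basicOpen (locus W c) (Set.range a) ?_ ?_
  · -- the ratios sum to one
    have h1 : ∑ l, a l = 1 := by
      refine ores_ext (fun j ↦ P.basicOpen (c j)) (fun j ↦ basicOpen_le_locus c j) le_rfl fun j ↦ ?_
      have hub : IsUnit (ores (P.basicOpen_le (c j)) (c j)) := RingedSpace.isUnit_res_basicOpen _ _
      apply hub.mul_right_cancel
      rw [map_sum, Finset.sum_mul, map_one, one_mul]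
      rw [Finset.sum_congr rfl fun l _ ↦ ha l j, ← map_sum]
    rw [Ideal.eq_top_iff_one, ← h1]
    exact Ideal.sum_mem _ fun l _ ↦ Ideal.subset_span ⟨l, rfl⟩
  · rintro _ ⟨l, rfl⟩
    rw [basicOpen_ratio (hu _) (hsv l) (ha l)]
    -- inside the affine locus of `s l`
    have hcv : IsFam W (fun j k ↦ g j k ^ (d * (2 * e + 1))) (fun j ↦ c j * v l j) :=
      IsFam.congr (isFam_mul hc (hv l)) fun j k ↦ by rw [← pow_add]; congr 1; ring
    have hsp : IsFam W (fun j k ↦ g j k ^ (d * (2 * e + 1))) (fun j ↦ s l j ^ (2 * e + 1)) :=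
      IsFam.congr (isFam_pow (hs l) (2 * e + 1)) fun j k ↦ (pow_mul _ _ _).symm
    obtain ⟨b, hb⟩ := exists_ratio hsp (hu _) hcv
    have h2 := basicOpen_ratio (hu _) hcv hb
    have h3 : IsAffineOpen (locus W (fun j ↦ s l j ^ (2 * e + 1))) := by
      have := locus_pow (W := W) (s l) (Nat.succ_pos (2 * e))
      rw [this]; exact hsa l
    have h4 := h3.basicOpen b
    rw [h2] at h4
    have e1 := locus_pow (W := W) (s l) (Nat.succ_pos (2 * e))
    have e2 := locus_mul hc (hu _) (hv l) (hu _) hW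
    have e3 := locus_mul (hs l) (hu _) (hv l) (hu _) hW
    rw [e1, e2] at h4
    rw [e3]
    have e4 : locus W (s l) ⊓ (locus W c ⊓ locus W (v l)) =
        locus W c ⊓ (locus W (s l) ⊓ locus W (v l)) := by
      rw [inf_left_comm]
    rw [e4] at h4
    exact h4

end lift

end K891.FamLift
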