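import Groth.Agent.EGA43.K891.FamLift2

/-!
# Lifting sections from a proper closed subscheme: the theorem
-/

set_option autoImplicit false
universe u

open CategoryTheory AlgebraicGeometry TopologicalSpace Opposite

namespace K891.FamLift

open Groth.Agent.Fdesc.LocGen Groth.Agent.Flat2H.FamExt Groth.Agent.Flat2H.FamDict
open Groth.Agent.Divis.AmpleAvoid
open Groth.Agent.Picfga.Level (Fam str ores_str koszul_fam)

variable {P T : Scheme.{u}} {ι : Type u} {R : Type u} [CommRing R]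

/-- The lifting theorem, in terms of the cohomological input: higher cohomology of large powers on `T`
vanishes and the modules of sections are finite. -/
theorem exists_lift_of [Finite ι] [QuasiSeparatedSpace P] (aP : P ⟶ Spec (CommRingCat.of R))
    (i : T ⟶ P) [IsClosedImmersion i] [IsProper (i ≫ aP)]
    {W : ι → P.Opens} {g : ∀ i j, Γ(P, W i ⊓ W j)} {L : P.Modules} (hT : Trivs L W g)
    (haff : ∀ j, IsAffineOpen (W j)) (k₀ : ℕ)
    (hH : ∀ k, k₀ ≤ k → ∀ p : ℕ, 0 < p →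
      Subsingleton (Coh.HHon T (CohB1.tensorPow ((Scheme.Modules.pullback i).obj L) k) ⊤ p))
    (hfin : ∀ k, Module.Finite R (Fam (i ≫ aP) (fun j ↦ i ⁻¹ᵁ W j)
      (fun j k ↦ i.app (W j ⊓ W k) (g j k)) k))
    {r d : ℕ} (hd : 0 < d) (s : Fin r → ∀ j, Γ(P, W j))
    (hs : ∀ l, IsFam W (fun i j ↦ g i j ^ d) (s l)) (hsa : ∀ l, IsAffineOpen (locus W (s l)))
    (hcov : ∀ x : P, ∃ l, x ∈ locus W (s l)) :
    ∃ m₂ : ℕ, ∀ m, m₂ ≤ m → ∀ u : (∀ j, Γ(T, i ⁻¹ᵁ W j)),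
      IsFam (fun j ↦ i ⁻¹ᵁ W j) (fun j k ↦ i.app (W j ⊓ W k) (g j k) ^ (d * m)) u →
      ∃ c : ∀ j, Γ(P, W j), IsFam W (fun j k ↦ g j k ^ (d * m)) c ∧
        (∀ j, i.app (W j) (c j) = u j) ∧ IsAffineOpen (locus W c) := by
  classical
  have hTT := hT.pullback i
  have haffT : ∀ j, IsAffineOpen (i ⁻¹ᵁ W j) := fun j ↦ (haff j).preimage i
  -- the sections have no common zero on `T`
  have hcovT : ∀ y : T, ∃ (l : Fin r) (j : ι), y ∈ T.basicOpen (i.app (W j) (s l j)) := by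
    intro y
    obtain ⟨l, hl⟩ := hcov (i y)
    obtain ⟨j, hj⟩ := mem_locus.mp hl
    refine ⟨l, j, ?_⟩
    rw [← Scheme.preimage_basicOpen]
    exact hj
  have hsT := fun l ↦ isFam_app i (hs l)
  -- Koszul for powers of the sections
  have koszul : ∀ (N : ℕ) (K : ℕ), k₀ + (r + 2) * (d * N) ≤ K → ∀ u : (∀ j, Γ(T, i ⁻¹ᵁ W j)),
      IsFam (fun j ↦ i ⁻¹ᵁ W j) (fun j k ↦ i.app (W j ⊓ W k) (g j k) ^ K) u →
      ∃ y : Fin r → ∀ j, Γ(T, i ⁻¹ᵁ W j),
        (∀ l, IsFam (fun j ↦ i ⁻¹ᵁ W j) (fun j k ↦ i.app (W j ⊓ W k) (g j k) ^ (K - d * N)) (y l)) ∧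
        ∀ j, u j = ∑ l, i.app (W j) (s l j) ^ N * y l j := by
    intro N K hK u hu
    refine (koszul_fam (i ≫ aP) hTT haffT k₀ hH (J := Fin r) (d * N)
      (fun l j ↦ i.app (W j) (s l j) ^ N) (fun l ↦ ?_) (fun y ↦ ?_) K ?_).1 u hu
    · exact IsFam.congr (isFam_pow (hsT l) N) fun j k ↦ (pow_mul _ _ _).symm
    · obtain ⟨l, j, hy⟩ := hcovT y
      refine ⟨l, j, ?_⟩
      rcases Nat.eq_zero_or_pos N with rfl | hN
      · rw [pow_zero, Scheme.basicOpen_of_isUnit _ isUnit_one]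
        exact T.basicOpen_le _ hy
      · rw [T.basicOpen_pow _ hN]; exact hy
    · rw [Fintype.card_fin]; exact hK
  -- a degree in which the families are finitely generated, beyond the Koszul bound
  let m₁ : ℕ := k₀ + (r + 2)
  have hm₁ : ∀ m, m₁ ≤ m → k₀ + (r + 2) * (d * 1) ≤ d * (m + 1) := by
    intro m hm
    have h1 : d * m₁ ≤ d * m := Nat.mul_le_mul_left d hm
    have h2 : k₀ ≤ d * k₀ := Nat.le_mul_of_pos_left _ hd
    calc k₀ + (r + 2) * (d * 1) ≤ d * k₀ + (r + 2) * (d * 1) := by omega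
      _ = d * m₁ := by simp only [m₁]; ring
      _ ≤ d * m := h1
      _ ≤ d * (m + 1) := Nat.mul_le_mul_left d (Nat.le_succ m)
  -- every family of degree `d m₁` lifts after multiplication by `s l ^ n`, for `n` large
  have hloc : ∀ u : Fam (i ≫ aP) (fun j ↦ i ⁻¹ᵁ W j) (fun j k ↦ i.app (W j ⊓ W k) (g j k)) (d * m₁),
      ∃ N : ℕ, ∀ n, N ≤ n → ∀ l, Lft i W g (d * (m₁ + n)) (fun j ↦ i.app (W j) (s l j) ^ n * u.1 j) := by
    intro u
    choose N hN using fun l ↦ exists_pow_lift i hT.isUnit haff (hs l) (hsa l) m₁ u.1 u.2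
    refine ⟨Finset.univ.sup N, fun n hn l ↦ ?_⟩
    obtain ⟨c, hc, hc'⟩ := hN l n ((Finset.le_sup (Finset.mem_univ l)).trans hn)
    exact ⟨c, hc, hc'⟩
  obtain ⟨N, hN⟩ : ∃ N : ℕ, ∀ (u : Fam (i ≫ aP) (fun j ↦ i ⁻¹ᵁ W j)
      (fun j k ↦ i.app (W j ⊓ W k) (g j k)) (d * m₁)) (l : Fin r),
      Lft i W g (d * (m₁ + N)) (fun j ↦ i.app (W j) (s l j) ^ N * u.1 j) := by
    obtain ⟨S, hS⟩ := (hfin (d * m₁)).fg_top
    choose N hN using hloc
    refine ⟨S.sup N, fun u ↦ ?_⟩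
    have hu : u ∈ Submodule.span R (S : Set (Fam (i ≫ aP) (fun j ↦ i ⁻¹ᵁ W j)
      (fun j k ↦ i.app (W j ⊓ W k) (g j k)) (d * m₁))) := by rw [hS]; trivial
    induction hu using Submodule.span_induction with
    | mem x hx => exact fun l ↦ hN x _ (Finset.le_sup (f := N) hx) l
    | zero =>
      intro l
      refine (Lft.zero _).congr fun j ↦ ?_
      rw [Groth.Agent.Picfga.Level.Fam.zero_val, mul_zero]
    | add x y _ _ h1 h2 =>
      intro l
      refine ((h1 l).add (h2 l)).congr fun j ↦ ?_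
      rw [Groth.Agent.Picfga.Level.Fam.add_val]
      exact (mul_add _ _ _).symm
    | smul a x _ h1 =>
      intro l
      refine ((h1 l).smul aP a).congr fun j ↦ ?_
      rw [Groth.Agent.Picfga.Level.Fam.smul_val]
      ring
  -- the same for all larger degrees
  have hall : ∀ m, m₁ ≤ m → ∀ u : (∀ j, Γ(T, i ⁻¹ᵁ W j)),
      IsFam (fun j ↦ i ⁻¹ᵁ W j) (fun j k ↦ i.app (W j ⊓ W k) (g j k) ^ (d * m)) u → ∀ l,
      Lft i W g (d * (m + N)) (fun j ↦ i.app (W j) (s l j) ^ N * u j) := by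
    intro m hm
    induction m, hm using Nat.le_induction with
    | base => exact fun u hu l ↦ hN ⟨u, hu⟩ l
    | succ m hm ih =>
      intro u hu l
      obtain ⟨y, hy, hy'⟩ := koszul 1 (d * (m + 1)) (hm₁ m hm) u hu
      have hdeg : d * (m + 1) - d * 1 = d * m := by
        rw [← Nat.mul_sub]; simp
      rw [hdeg] at hy
      have h1 : Lft i W g (d * (m + 1 + N))
          (fun j ↦ ∑ l', i.app (W j) (s l' j) * (i.app (W j) (s l j) ^ N * y l' j)) :=
        Lft.sum Finset.univ fun l' _ ↦ (ih (y l') (hy l') l).mul (hs l') (by ring)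
      refine h1.congr fun j ↦ ?_
      rw [hy' j, Finset.mul_sum]
      exact Finset.sum_congr rfl fun l' _ ↦ by rw [pow_one]; ring
  -- everything lifts in large degrees
  let m₃ : ℕ := m₁ + N + (k₀ + (r + 2) * N)
  have hm₃ : ∀ m, m₃ ≤ m → k₀ + (r + 2) * (d * N) ≤ d * m := by
    intro m hm
    have h2 : k₀ ≤ d * k₀ := Nat.le_mul_of_pos_left _ hd
    calc k₀ + (r + 2) * (d * N) ≤ d * k₀ + (r + 2) * (d * N) := by omega
      _ = d * (k₀ + (r + 2) * N) := by ring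
      _ ≤ d * m := Nat.mul_le_mul_left d (by omega)
  have hlift : ∀ m, m₃ ≤ m → ∀ u : (∀ j, Γ(T, i ⁻¹ᵁ W j)),
      IsFam (fun j ↦ i ⁻¹ᵁ W j) (fun j k ↦ i.app (W j ⊓ W k) (g j k) ^ (d * m)) u →
      Lft i W g (d * m) u := by
    intro m hm u hu
    obtain ⟨y, hy, hy'⟩ := koszul N (d * m) (hm₃ m hm) u hu
    have hmN : N ≤ m := by omega
    obtain ⟨q, rfl⟩ := Nat.exists_eq_add_of_le' hmN
    have hdeg : d * (q + N) - d * N = d * q := by
      rw [← Nat.mul_sub]; simp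
    rw [hdeg] at hy
    have h1 : Lft i W g (d * (q + N)) (fun j ↦ ∑ l, i.app (W j) (s l j) ^ N * y l j) :=
      Lft.sum Finset.univ fun l _ ↦ hall q (by omega) (y l) (hy l) l
    exact h1.congr fun j ↦ (hy' j).symm
  -- with affine locus
  refine ⟨m₃ + 1 + m₁, fun m hm u hu ↦ ?_⟩
  obtain ⟨q, rfl⟩ : ∃ q, m = q + 1 := ⟨m - 1, by omega⟩
  obtain ⟨y, hy, hy'⟩ := koszul 1 (d * (q + 1)) (hm₁ q (by omega)) u hu
  have hdeg : d * (q + 1) - d * 1 = d * q := by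
    rw [← Nat.mul_sub]; simp
  rw [hdeg] at hy
  choose v hv hv' using fun l ↦ hlift q (by omega) (y l) (hy l)
  refine ⟨fun j ↦ ∑ l, s l j * v l j, ?_, fun j ↦ ?_, ?_⟩
  · refine isFam_sum _ _ fun l _ ↦ IsFam.congr (isFam_mul (hs l) (hv l)) fun j k ↦ ?_
    rw [← pow_add]; congr 1; ring
  · rw [map_sum, hy' j]
    exact Finset.sum_congr rfl fun l _ ↦ by rw [map_mul, hv', pow_one]
  · exact isAffineOpen_locus_sum hT.isUnit hT.1 hs hsa hv

end K891.FamLift
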