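import Mathlib.AlgebraicGeometry.ResidueField
import Mathlib.AlgebraicGeometry.Morphisms.UniversallyClosed
import Mathlib.AlgebraicGeometry.ValuativeCriterion
import Mathlib.AlgebraicGeometry.FunctionField

/-!
# Points with values in a field, and residue field maps
-/

set_option autoImplicit false
universe u

open CategoryTheory CategoryTheory.Limits AlgebraicGeometry IsLocalRing

namespace K891.FieldPoints

theorem exists_fac {K : Type u} [Field K] {X : Scheme.{u}} (φ : Spec (CommRingCat.of K) ⟶ X) (x : X)
    (hx : φ (closedPoint K) = x) :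
    ∃ a : X.residueField x ⟶ CommRingCat.of K, Spec.map a ≫ X.fromSpecResidueField x = φ := by
  subst hx
  exact ⟨_, Scheme.descResidueField_stalkClosedPointTo_fromSpecResidueField K X φ⟩

variable {K : Type u} [Field K] {P T : Scheme.{u}} (q : P ⟶ T) (p : P)

/-- A field-valued point of `T` with image `q p` lifts to `p` when `q` induces an isomorphism on the
residue fields at `p`. -/
theorem exists_lift (hb : Function.Bijective (q.residueFieldMap p).hom)
    (φ : Spec (CommRingCat.of K) ⟶ T) (hφ : φ (closedPoint K) = q p) :
    ∃ σ : Spec (CommRingCat.of K) ⟶ P, σ ≫ q = φ ∧ σ (closedPoint K) = p := by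
  obtain ⟨a, ha⟩ := exists_fac φ (q p) hφ
  have hiso : IsIso (q.residueFieldMap p) := by
    rw [ConcreteCategory.isIso_iff_bijective]
    exact hb
  refine ⟨Spec.map (inv (q.residueFieldMap p) ≫ a) ≫ P.fromSpecResidueField p, ?_, ?_⟩
  · rw [Category.assoc, ← Scheme.Hom.SpecMap_residueFieldMap_fromSpecResidueField q p,
      ← Category.assoc, ← Spec.map_comp, IsIso.hom_inv_id_assoc, ha]
  · rw [Scheme.Hom.comp_apply, Scheme.fromSpecResidueField_apply]

/-- Uniqueness of the lift. -/
theorem lift_unique (hb : Function.Bijective (q.residueFieldMap p).hom)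
    (σ τ : Spec (CommRingCat.of K) ⟶ P) (h : σ ≫ q = τ ≫ q) (hσ : σ (closedPoint K) = p)
    (hτ : τ (closedPoint K) = p) : σ = τ := by
  obtain ⟨a, rfl⟩ := exists_fac σ p hσ
  obtain ⟨b, rfl⟩ := exists_fac τ p hτ
  have hiso : IsIso (q.residueFieldMap p) := by
    rw [ConcreteCategory.isIso_iff_bijective]
    exact hb
  rw [Category.assoc, Category.assoc, ← Scheme.Hom.SpecMap_residueFieldMap_fromSpecResidueField q p,
    ← Category.assoc, ← Category.assoc, cancel_mono, ← Spec.map_comp, ← Spec.map_comp] at h
  have h2 := Spec.map_injective h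
  rw [cancel_epi] at h2
  rw [h2]

/-- If the field-valued point `σ` at `p` composes to a point of `T` whose residue field extension is
trivial, then `q` is bijective on the residue fields at `p`. -/
theorem bijective_of_point {K' : Type u} [Field K'] (σ : Spec (CommRingCat.of K') ⟶ P)
    (hσ : σ (closedPoint K') = p) (b : T.residueField (q p) ⟶ CommRingCat.of K')
    (hb : Function.Surjective b.hom) (h : σ ≫ q = Spec.map b ≫ T.fromSpecResidueField (q p)) :
    Function.Bijective (q.residueFieldMap p).hom := by
  refine ⟨(q.residueFieldMap p).hom.injective, ?_⟩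
  obtain ⟨a, rfl⟩ := exists_fac σ p hσ
  rw [Category.assoc, ← Scheme.Hom.SpecMap_residueFieldMap_fromSpecResidueField q p,
    ← Category.assoc, cancel_mono, ← Spec.map_comp] at h
  have h2 := Spec.map_injective h
  intro y
  obtain ⟨x, hx⟩ := hb (a.hom y)
  refine ⟨x, a.hom.injective ?_⟩
  rw [← hx, ← h2]
  rfl

end K891.FieldPoints

namespace K891.FieldPoints

/-- For a domain `A` with fraction field `K`, the residue field at the image of `Spec K` maps onto `K`. -/
theorem surjective_of_isFractionRing {A K : Type u} [CommRing A] [IsDomain A] [Field K] [Algebra A K]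
    [IsFractionRing A K] (t : ↥(Spec (CommRingCat.of A)))
    (b : (Spec (CommRingCat.of A)).residueField t ⟶ CommRingCat.of K)
    (hb : Spec.map b ≫ (Spec (CommRingCat.of A)).fromSpecResidueField t =
      Spec.map (CommRingCat.ofHom (algebraMap A K))) : Function.Surjective b.hom := by
  obtain ⟨c, hc⟩ := Spec.map_surjective ((Spec (CommRingCat.of A)).fromSpecResidueField t)
  rw [← hc, ← Spec.map_comp] at hb
  have h1 := Spec.map_injective hb
  have h2 : ∀ a : A, b.hom (c.hom a) = algebraMap A K a := fun a => by
    rw [← CommRingCat.comp_apply, h1]; rfl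
  intro y
  obtain ⟨a, s, hs, rfl⟩ := IsFractionRing.div_surjective (A := A) y
  refine ⟨c.hom a / c.hom s, ?_⟩
  rw [map_div₀, h2, h2]

/-- The image of `Spec K` is the generic point of `Spec A`. -/
theorem apply_closedPoint {A K : Type u} [CommRing A] [IsDomain A] [Field K] [Algebra A K]
    [IsFractionRing A K] :
    Spec.map (CommRingCat.ofHom (algebraMap A K)) (closedPoint K) =
      genericPoint ↥(Spec (CommRingCat.of A)) := by
  refine Eq.trans ?_ (genericPoint_eq_bot_of_affine (CommRingCat.of A)).symm
  apply PrimeSpectrum.ext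
  change (maximalIdeal K).comap (algebraMap A K) = ⊥
  rw [IsLocalRing.maximalIdeal_eq_bot, ← RingHom.ker_eq_comap_bot]
  exact (RingHom.injective_iff_ker_eq_bot _).1 (IsFractionRing.injective A K)

end K891.FieldPoints
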