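import Groth.Agent.CycB.StalkLen
import Groth.Agent.CycB.SpAlg

/-!
# An inequality of lengths over a Noetherian local ring

If `t` is regular on the finite module `M` and the support of `M/tM` is reduced to the closed point,
then the sum of the lengths of `M_p`, over finitely many non-maximal primes `p`, is at most the
length of `M/tM`.
-/

set_option autoImplicit false
universe u

open IsLocalRing Pointwise

namespace K891.LenIneqAlg

open Groth.Agent.CycB.SpAlg Groth.Agent.CycB.StalkLen

variable {A : Type u} [CommRing A] [IsNoetherianRing A] [IsLocalRing A]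
  {M : Type u} [AddCommGroup M] [Module A M] [Module.Finite A M]

omit [IsNoetherianRing A] in
theorem supportDim_quot_le_zero' {t : A}
    (hsupp : ∀ p : PrimeSpectrum A, p ∈ Module.support A M → t ∈ p.asIdeal →
      p.asIdeal = maximalIdeal A) :
    Module.supportDim A (QuotSMulTop t M) ≤ 0 := by
  refine iSup_le fun s => ?_
  have h : ∀ p : Module.support A (QuotSMulTop t M), p.1.asIdeal = maximalIdeal A := by
    rintro ⟨p, hp⟩
    rw [Module.support_quotSMulTop] at hp
    exact hsupp p hp.1 (hp.2 (Set.mem_singleton t))
  have hlen : s.length = 0 := by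
    by_contra hne
    have hpos : 0 < s.length := Nat.pos_of_ne_zero hne
    have h1 := s.step ⟨0, hpos⟩
    have h2 : (s.toFun (Fin.castSucc ⟨0, hpos⟩)) = (s.toFun (Fin.succ ⟨0, hpos⟩)) := by
      apply Subtype.ext
      apply PrimeSpectrum.ext
      rw [h, h]
    exact absurd h2 (ne_of_lt h1)
  rw [hlen]
  rfl

theorem sum_locLen_le {t : A} (ht : t ∈ maximalIdeal A) (hreg : IsSMulRegular M t)
    (hsupp : ∀ p : PrimeSpectrum A, p ∈ Module.support A M → t ∈ p.asIdeal →
      p.asIdeal = maximalIdeal A)
    (T : Finset (PrimeSpectrum A)) (hT : ∀ p ∈ T, p.asIdeal ≠ maximalIdeal A) :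
    ∑ p ∈ T, locLen p M ≤ Module.length A (M ⧸ t • (⊤ : Submodule A M)) := by
  have h0 : Module.supportDim A (M ⧸ t • (⊤ : Submodule A M)) ≤ 0 := supportDim_quot_le_zero' hsupp
  have h1 : Module.supportDim A M ≤ 1 := by
    have h2 := Module.supportDim_quotSMulTop_succ_eq_supportDim hreg ht
    rw [← h2]
    have h3 : Module.supportDim A (QuotSMulTop t M) ≤ 0 := h0
    calc Module.supportDim A (QuotSMulTop t M) + 1 ≤ 0 + 1 := by gcongr
      _ = 1 := zero_add 1
  have hfin := finite_support_ne_maximal h1
  have key := Groth.Agent.S1833.result A M t h1 h0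
  have hker : Module.length A (LinearMap.ker (LinearMap.lsmul A M t)) = 0 := by
    rw [Module.length_eq_zero_iff, Submodule.subsingleton_iff_eq_bot]
    exact LinearMap.ker_eq_bot.2 hreg
  rw [hker, zero_add] at key
  have key' : Module.length A (M ⧸ t • (⊤ : Submodule A M)) =
      ∑ p ∈ hfin.toFinset, Ring.ord (A ⧸ p.asIdeal) (Ideal.Quotient.mk p.asIdeal t) *
        locLen p M := by
    rw [key]
    exact finsum_mem_eq_finite_toFinset_sum _ hfin
  rw [key']
  classical
  calc ∑ p ∈ T, locLen p M = ∑ p ∈ T.filter (fun p => p ∈ Module.support A M), locLen p M := by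
        rw [Finset.sum_filter]
        refine Finset.sum_congr rfl fun p _ => ?_
        split_ifs with h
        · rfl
        · exact (locLen_eq_zero_iff p M).2 h
    _ ≤ ∑ p ∈ hfin.toFinset, locLen p M := by
        refine Finset.sum_le_sum_of_subset ?_
        intro p hp
        rw [Finset.mem_filter] at hp
        rw [Set.Finite.mem_toFinset]
        exact ⟨hp.2, hT p hp.1⟩
    _ ≤ _ := by
        refine Finset.sum_le_sum fun p hp => ?_
        rw [Set.Finite.mem_toFinset] at hp
        have hord : 1 ≤ Ring.ord (A ⧸ p.asIdeal) (Ideal.Quotient.mk p.asIdeal t) := by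
          rw [Order.one_le_iff_ne_zero]
          intro hz
          have hu : IsUnit (Ideal.Quotient.mk p.asIdeal t) := by
            rw [Ring.ord, Module.length_eq_zero_iff, Submodule.Quotient.subsingleton_iff,
              Ideal.span_singleton_eq_top] at hz
            exact hz
          obtain ⟨b, hb⟩ := hu.exists_right_inv
          obtain ⟨b, rfl⟩ := Ideal.Quotient.mk_surjective b
          rw [← map_mul, ← map_one (Ideal.Quotient.mk p.asIdeal), Ideal.Quotient.eq] at hb
          have h2 : t * b - 1 ∈ maximalIdeal A := IsLocalRing.le_maximalIdeal p.2.ne_top hb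
          have h3 : (1 : A) ∈ maximalIdeal A := by
            have := (maximalIdeal A).sub_mem ((maximalIdeal A).mul_mem_right b ht) h2
            rwa [sub_sub_cancel] at this
          exact (Ideal.ne_top_iff_one _).1 (maximalIdeal.isMaximal A).ne_top h3
        calc locLen p M = 1 * locLen p M := (one_mul _).symm
          _ ≤ _ := by gcongr

end K891.LenIneqAlg
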