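import Groth.Agent.EGA43.K891.FamLift3
import Groth.Agent.Divis.IdealComap
import Groth.Agent.S0021
import Groth.Agent.S0052
import Groth.Agent.S0051
import Groth.Agent.S0002
import Groth.Agent.Fga.HShift
import Groth.Agent.Fdesc.StructMod
import Groth.Agent.Ega2.TensMon
import Groth.Agent.Ega3B.CohTensor
import Groth.Agent.CurvesB.UnitCoh
import Groth.Agent.CohqB.LocalQC
import Groth.Agent.Picfga.ChiCech

/-!
# Ampleness descends along a pinching with proper conductor

Let `h : X₁ ⟶ X` be finite surjective with `O_X → h_* O_{X₁}` injective, and `J` an ideal of `O_X`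
with `J · h_* O_{X₁} ⊆ O_X` such that `V(J)` is proper over the (Noetherian affine) base.  If the
pullback of the invertible module `L` to `X₁` is ample, then `L` is ample (`isAmple_of_pinch`).
-/

set_option autoImplicit false
universe u

open CategoryTheory CategoryTheory.Limits AlgebraicGeometry TopologicalSpace Opposite

namespace K891.Pinch

open Groth.Agent.Fdesc.LocGen Groth.Agent.Flat2H.FamExt Groth.Agent.Flat2H.FamDict
open Groth.Agent.Divis.AmpleAvoid K891.FamLift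

variable {X X₁ : Scheme.{u}} {ι : Type u}

/-- An open whose preimage under a finite surjective morphism is affine, is affine. -/
theorem isAffineOpen_of_preimage [IsNoetherian X] (h : X₁ ⟶ X) [IsFinite h] [Surjective h]
    (U : X.Opens) (hU : IsAffineOpen (h ⁻¹ᵁ U)) : IsAffineOpen U := by
  have h1 : IsFinite (h ∣_ U) := MorphismProperty.of_isPullback (isPullback_morphismRestrict h U).flip inferInstance
  have h2 : Surjective (h ∣_ U) := MorphismProperty.of_isPullback (isPullback_morphismRestrict h U).flip inferInstance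
  have h3 : IsAffine (h ⁻¹ᵁ U) := hU
  have h4 : IsLocallyNoetherian U := isLocallyNoetherian_of_isOpenImmersion U.ι
  have h5 : CompactSpace U := isCompact_iff_compactSpace.1 (NoetherianSpace.isCompact _)
  have h6 : IsNoetherian U := { }
  exact Groth.Agent.S0021.result (h ∣_ U)

/-- Descending a family along an injective finite surjective morphism. -/
theorem descend [IsNoetherian X] (h : X₁ ⟶ X) [IsFinite h] [Surjective h]
    (hinj : ∀ U : X.Opens, Function.Injective (h.app U))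
    {W : ι → X.Opens} {g : ∀ i j, Γ(X, W i ⊓ W j)} {n : ℕ} {c : ∀ j, Γ(X₁, h ⁻¹ᵁ W j)}
    (hc : IsFam (fun j ↦ h ⁻¹ᵁ W j) (fun j k ↦ h.app (W j ⊓ W k) (g j k) ^ n) c)
    (hca : IsAffineOpen (locus (fun j ↦ h ⁻¹ᵁ W j) c)) (hr : ∀ j, c j ∈ Set.range (h.app (W j)))
    (x₁ : X₁) (hx : x₁ ∈ locus (fun j ↦ h ⁻¹ᵁ W j) c) :
    ∃ b : ∀ j, Γ(X, W j), IsFam W (fun j k ↦ g j k ^ n) b ∧ h x₁ ∈ locus W b ∧
      IsAffineOpen (locus W b) := by
  choose b hb using hr
  obtain rfl : (fun j ↦ h.app (W j) (b j)) = c := funext hb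
  have hpre : h ⁻¹ᵁ locus W b = locus (fun j ↦ h ⁻¹ᵁ W j) (fun j ↦ h.app (W j) (b j)) :=
    Groth.Agent.Flat2H.FamOpen.preimage_locus h b
  refine ⟨b, fun i j ↦ ?_, ?_, ?_⟩
  · apply hinj
    have h1 := hc i j
    rw [map_mul, map_pow]
    have e1 : h.app (W i ⊓ W j) (ores inf_le_left (b i)) =
        ores (h.preimage_mono inf_le_left) (h.app (W i) (b i)) := (ores_app h _ _).symm
    have e2 : h.app (W i ⊓ W j) (ores inf_le_right (b j)) =
        ores (h.preimage_mono inf_le_right) (h.app (W j) (b j)) := (ores_app h _ _).symm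
    rw [e1, e2]
    exact h1
  · change x₁ ∈ h ⁻¹ᵁ locus W b
    rw [hpre]; exact hx
  · apply isAffineOpen_of_preimage h
    rw [hpre]; exact hca

/-- Elements of the pulled back ideal come from below. -/
theorem mem_range_of_mem_map {A B : Type*} [CommRing A] [CommRing B] (φ : A →+* B) (I : Ideal A)
    (hI : ∀ a ∈ I, ∀ b : B, ∃ a', φ a' = φ a * b) (x : B) (hx : x ∈ I.map φ) : x ∈ Set.range φ := by
  have key : ∀ x ∈ I.map φ, ∀ b : B, ∃ a', φ a' = x * b := by
    intro x hx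
    refine Submodule.span_induction (p := fun x _ ↦ ∀ b : B, ∃ a', φ a' = x * b) ?_ ?_ ?_ ?_ hx
    · rintro _ ⟨a, ha, rfl⟩ b
      exact hI a ha b
    · intro b
      exact ⟨0, by rw [map_zero, zero_mul]⟩
    · intro y z _ _ hy hz b
      obtain ⟨a', ha'⟩ := hy b
      obtain ⟨a'', ha''⟩ := hz b
      exact ⟨a' + a'', by rw [map_add, ha', ha'', add_mul]⟩
    · intro c y _ hy b
      obtain ⟨a', ha'⟩ := hy (c * b)
      exact ⟨a', by rw [ha', smul_eq_mul]; ring⟩
  obtain ⟨a', ha'⟩ := key x hx 1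
  exact ⟨a', by rw [ha', mul_one]⟩

theorem app_eq_zero {S T : Scheme.{u}} {f f' : S ⟶ T} (hf : f = f') {V : T.Opens} {x : Γ(T, V)}
    (h : f'.app V x = 0) : f.app V x = 0 := by
  subst hf; exact h

theorem app_app_eq_zero {S T Y Z : Scheme.{u}} {i : S ⟶ Y} {h : Y ⟶ Z} {q : S ⟶ T} {j : T ⟶ Z}
    (hw : i ≫ h = q ≫ j) {V : Z.Opens} {x : Γ(Z, V)} (hx : j.app V x = 0) :
    i.app (h ⁻¹ᵁ V) (h.app V x) = 0 := by
  have h1 : (q ≫ j).app V x = 0 := by
    change q.app (j ⁻¹ᵁ V) (j.app V x) = 0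
    rw [hx, map_zero]
  exact app_eq_zero hw h1

variable {R : Type u} [CommRing R] [IsNoetherianRing R]

/-- Serre vanishing for powers of an ample module, on opens. -/
theorem exists_vanishing {T : Scheme.{u}} (a : T ⟶ Spec (CommRingCat.of R)) [IsProper a] {L : T.Modules}
    (hL : CohB1.IsAmple L) : ∃ k₀ : ℕ, ∀ k, k₀ ≤ k → ∀ p : ℕ, 0 < p →
      Subsingleton (Coh.HHon T (CohB1.tensorPow L k) ⊤ p) := by
  obtain ⟨n₀, h⟩ := (Groth.Agent.S0051.result R T a L hL.1).1 hL (Coh.structureModule T)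
    (Groth.Agent.Fdesc.StructMod.isCoh_structureModule T)
  refine ⟨n₀, fun k hk p hp => ?_⟩
  have h1 := Groth.Agent.Fga.HShift.subsingleton_of_iso
    (Groth.Agent.Ega2.Tens.lunit (CohB1.tensorPow L k)) p (h k hk p hp)
  exact ((Groth.Agent.CohqA.HOpen.HHTopEquiv (CohB1.tensorPow L k) p).trans
    (Groth.Agent.CohqA.HOpen.HHonEquiv (CohB1.tensorPow L k) ⊤ p)).symm.toEquiv.subsingleton

/-- Families of a fixed degree form a finite module. -/
theorem finite_fam {T : Scheme.{u}} (a : T ⟶ Spec (CommRingCat.of R)) [IsProper a] {L : T.Modules}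
    {W : ι → T.Opens} {g : ∀ i j, Γ(T, W i ⊓ W j)} (hT : Trivs L W g) (k : ℕ) :
    Module.Finite R (Groth.Agent.Picfga.Level.Fam a W g k) := by
  obtain ⟨F, hF, hadd, hsmul⟩ := Groth.Agent.Picfga.Level.exists_famMap a k (hT.tensorPow k)
  let _ : T.Over (Spec (CommRingCat.of R)) := ⟨a⟩
  have hprop : IsProper (T ↘ Spec (CommRingCat.of R)) := ‹IsProper a›
  have hcoh : Coh.IsCoh (CohB1.tensorPow L k) :=
    Groth.Agent.CohqB.LocalQC.isCoh_of_iso (Groth.Agent.Ega2.Tens.lunit (CohB1.tensorPow L k))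
      (Groth.Agent.Ega3B.CohTensor.isCoh_tensor
        (Groth.Agent.Fdesc.StructMod.isCoh_structureModule T) (hT.tensorPow k).isInvertible)
  have h0 : Module.Finite R (Coh.HH T (CohB1.tensorPow L k) 0) :=
    Groth.Agent.S0002.result R T (CohB1.tensorPow L k) hcoh 0
  have h1 : Module.Finite R (Groth.Agent.Picfga.ChiCech.SecA R (CohB1.tensorPow L k) ⊤) :=
    Module.Finite.equiv (Groth.Agent.Picfga.ChiCech.h0Top R (CohB1.tensorPow L k))
  let f : Groth.Agent.Picfga.ChiCech.SecA R (CohB1.tensorPow L k) ⊤ →ₗ[R]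
      Groth.Agent.Picfga.Level.Fam a W g k :=
    { toFun := F
      map_add' := hadd
      map_smul' := fun r s ↦ by
        have h2 := hsmul ((Scheme.ΓSpecIso (CommRingCat.of R)).inv.hom r) s
        have h3 : (Scheme.ΓSpecIso (CommRingCat.of R)).hom.hom
            ((Scheme.ΓSpecIso (CommRingCat.of R)).inv.hom r) = r := by
          change ((Scheme.ΓSpecIso (CommRingCat.of R)).inv ≫ (Scheme.ΓSpecIso (CommRingCat.of R)).hom).hom r = r
          rw [Iso.inv_hom_id]; rfl
        rw [h3] at h2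
        have h4 : Groth.Agent.Picfga.ChiCech.str R (⊤ : T.Opens) r =
            a.app ⊤ ((Scheme.ΓSpecIso (CommRingCat.of R)).inv.hom r) :=
          ores_refl _
        refine Eq.trans ?_ h2
        change F (Groth.Agent.Picfga.ChiCech.str R (⊤ : T.Opens) r • (show Γ(CohB1.tensorPow L k, ⊤) from s)) = _
        rw [h4]
        rfl }
  exact Module.Finite.of_surjective f hF.2

theorem isAmple_of_pinch (aX : X ⟶ Spec (CommRingCat.of R)) [LocallyOfFiniteType aX] [CompactSpace X]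
    (h : X₁ ⟶ X) [IsFinite h] [Surjective h] [Finite ι] {W : ι → X.Opens}
    {g : ∀ i j, Γ(X, W i ⊓ W j)} {L : X.Modules} (hT : Trivs L W g)
    (haff : ∀ j, IsAffineOpen (W j)) (J : X.IdealSheafData) [IsProper (J.subschemeι ≫ aX)]
    (hinj : ∀ U : X.Opens, Function.Injective (h.app U))
    (hJ : ∀ j, ∀ b ∈ J.ideal ⟨W j, haff j⟩, ∀ c : Γ(X₁, h ⁻¹ᵁ W j),
      ∃ b', h.app (W j) b' = h.app (W j) b * c)
    (hA : CohB1.IsAmple ((Scheme.Modules.pullback h).obj L)) : CohB1.IsAmple L := by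
  classical
  have hXn : IsLocallyNoetherian X := LocallyOfFiniteType.isLocallyNoetherian aX
  have hXn' : IsNoetherian X := { }
  let T₁ := pullback h J.subschemeι
  let i : T₁ ⟶ X₁ := pullback.fst h J.subschemeι
  let q : T₁ ⟶ J.subscheme := pullback.snd h J.subschemeι
  have hw : i ≫ h = q ≫ J.subschemeι := pullback.condition
  have hi : IsClosedImmersion i := inferInstanceAs (IsClosedImmersion (pullback.fst h J.subschemeι))
  have hq : IsFinite q := inferInstanceAs (IsFinite (pullback.snd h J.subschemeι))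
  have hqs : Surjective q := inferInstanceAs (Surjective (pullback.snd h J.subschemeι))
  have hw' : i ≫ h ≫ aX = q ≫ J.subschemeι ≫ aX := by
    rw [← Category.assoc, hw, Category.assoc]
  have hprop : IsProper (i ≫ h ≫ aX) := by
    rw [hw']; infer_instance
  have haff₁ : ∀ j, IsAffineOpen (h ⁻¹ᵁ W j) := fun j ↦ (haff j).preimage h
  have hT₁ := hT.pullback h
  have hqsX : QuasiSeparatedSpace X₁ := quasiSeparatedSpace_of_isAmple hA
  have hLT₁ : CohB1.IsAmple ((Scheme.Modules.pullback i).obj ((Scheme.Modules.pullback h).obj L)) :=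
    Groth.Agent.Flat2H.FamOpen.isAmple_pullback_of_isAffineHom i hA
  have hLinv : PicF.IsInvertible L := hT.isInvertible
  -- `L` is ample on `T = V(J)`
  have hLT : CohB1.IsAmple ((Scheme.Modules.pullback J.subschemeι).obj L) := by
    rw [Groth.Agent.S0052.result R (J.subschemeι ≫ aX) (i ≫ h ≫ aX) q hw'.symm _
      (hT.pullback J.subschemeι).isInvertible]
    refine isAmple_of_iso ?_ hLT₁
    exact (Scheme.Modules.pullbackComp i h).app L ≪≫
      (Scheme.Modules.pullbackCongr hw).app L ≪≫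
      ((Scheme.Modules.pullbackComp q J.subschemeι).app L).symm
  -- the kernel of the restriction to `T₁` comes from below
  have hker : ∀ j (c : Γ(X₁, h ⁻¹ᵁ W j)), i.app (h ⁻¹ᵁ W j) c = 0 → c ∈ Set.range (h.app (W j)) := by
    intro j c hc
    have h1 : c ∈ (J.comap h).ideal ⟨h ⁻¹ᵁ W j, haff₁ j⟩ := by
      change c ∈ i.ker.ideal ⟨h ⁻¹ᵁ W j, haff₁ j⟩
      rw [Scheme.Hom.ker_apply]
      exact hc
    rw [Groth.Agent.Divis.IdealComap.ideal_comap J h ⟨W j, haff j⟩ ⟨h ⁻¹ᵁ W j, haff₁ j⟩ le_rfl] at h1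
    have h2 : h.appLE (W j) (h ⁻¹ᵁ W j) le_rfl = h.app (W j) := (Scheme.Hom.app_eq_appLE _).symm
    change c ∈ (J.ideal ⟨W j, haff j⟩).map (h.appLE (W j) (h ⁻¹ᵁ W j) le_rfl).hom at h1
    rw [h2] at h1
    exact mem_range_of_mem_map (h.app (W j)).hom _ (hJ j) c h1
  -- the key: through each point there is a good section
  have key : ∀ x : X, ∃ (n : ℕ) (b : ∀ j, Γ(X, W j)), 0 < n ∧ IsFam W (fun j k ↦ g j k ^ n) b ∧
      x ∈ locus W b ∧ IsAffineOpen (locus W b) := by
    intro x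
    by_cases hx : x ∈ Set.range J.subschemeι
    · obtain ⟨y, rfl⟩ := hx
      obtain ⟨y₁, rfl⟩ := q.surjective y
      -- a section on `T`
      obtain ⟨n, b, hb, hyb, -⟩ := (hT.pullback J.subschemeι).isAmple_iff.1 hLT |>.2 (q y₁)
      obtain ⟨r, d, s, hd, hs, hsa, hcov⟩ := exists_cover hT₁ hA
      obtain ⟨k₀, hk₀⟩ := exists_vanishing (i ≫ h ≫ aX) hLT₁
      obtain ⟨m₂, hm₂⟩ := exists_lift_of (h ≫ aX) i hT₁ haff₁ k₀ hk₀
        (fun k ↦ finite_fam (i ≫ h ≫ aX) (hT₁.pullback i) k) hd s hs hsa hcov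
      obtain ⟨e, m, hm, hdm, he⟩ : ∃ e m : ℕ, m₂ ≤ m ∧ d * m = (n + 1) * e ∧ 0 < e := by
        refine ⟨d * (m₂ + 1), (n + 1) * (m₂ + 1), ?_, by ring, Nat.mul_pos hd (Nat.succ_pos _)⟩
        have : 1 * (m₂ + 1) ≤ (n + 1) * (m₂ + 1) := Nat.mul_le_mul_right _ (by omega)
        omega
      -- lift the values to `X`
      choose t ht using fun j ↦ app_surjective J.subschemeι (haff j) (b j ^ e)
      let u : ∀ j, Γ(T₁, i ⁻¹ᵁ (h ⁻¹ᵁ W j)) := fun j ↦ i.app (h ⁻¹ᵁ W j) (h.app (W j) (t j))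
      have hu : IsFam (fun j ↦ i ⁻¹ᵁ (h ⁻¹ᵁ W j))
          (fun j k ↦ i.app (h ⁻¹ᵁ W j ⊓ h ⁻¹ᵁ W k) (h.app (W j ⊓ W k) (g j k)) ^ (d * m)) u := by
        intro j k
        have h2 : J.subschemeι.app (W j ⊓ W k)
            (ores inf_le_left (t j) * g j k ^ (d * m) - ores inf_le_right (t k)) = 0 := by
          rw [map_sub, map_mul, map_pow, ← ores_app, ← ores_app, ht, ht, sub_eq_zero, map_pow,
            map_pow, hdm, pow_mul, ← mul_pow]
          congr 1
          exact hb j k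
        have h1 := app_app_eq_zero hw h2
        rw [map_sub, map_mul, map_pow, map_sub, map_mul, map_pow, sub_eq_zero] at h1
        rw [← ores_app h, ← ores_app h] at h1
        exact (congrArg (fun z ↦ z * _) (ores_app i _ _)).trans (h1.trans (ores_app i _ _).symm)
      obtain ⟨c, hc, hcu, hca⟩ := hm₂ m hm u hu
      have hr : ∀ j, c j ∈ Set.range (h.app (W j)) := by
        intro j
        obtain ⟨a', ha'⟩ := hker j (c j - h.app (W j) (t j)) (by rw [map_sub, hcu, sub_self])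
        exact ⟨a' + t j, by rw [map_add, ha', sub_add_cancel]⟩
      have hxc : i y₁ ∈ locus (fun j ↦ h ⁻¹ᵁ W j) c := by
        obtain ⟨j, hj⟩ := mem_locus.mp hyb
        refine mem_locus.mpr ⟨j, ?_⟩
        have h1 : q y₁ ∈ (J.subscheme).basicOpen (b j ^ e) := by
          rw [(J.subscheme).basicOpen_pow _ he]; exact hj
        rw [← ht, ← Scheme.preimage_basicOpen] at h1
        have h2 : h (i y₁) ∈ X.basicOpen (t j) := by
          rw [← Scheme.Hom.comp_apply, hw, Scheme.Hom.comp_apply]; exact h1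
        have h3 : i y₁ ∈ X₁.basicOpen (h.app (W j) (t j)) := by
          rw [← Scheme.preimage_basicOpen]; exact h2
        have h4 : y₁ ∈ T₁.basicOpen (i.app (h ⁻¹ᵁ W j) (h.app (W j) (t j))) := by
          rw [← Scheme.preimage_basicOpen]; exact h3
        have h5 : y₁ ∈ T₁.basicOpen (i.app (h ⁻¹ᵁ W j) (c j)) := by rw [hcu]; exact h4
        rw [← Scheme.preimage_basicOpen] at h5
        exact h5
      obtain ⟨b', hb', hxb', hab'⟩ := descend h hinj hc hca hr (i y₁) hxc
      refine ⟨d * m, b', ?_, hb', ?_, hab'⟩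
      · rw [hdm]; exact Nat.mul_pos (Nat.succ_pos _) he
      · rw [← Scheme.Hom.comp_apply, ← hw, Scheme.Hom.comp_apply]; exact hxb'
    · obtain ⟨x₁, rfl⟩ := h.surjective x
      let U₁ : X₁.Opens := ⟨(Set.range i)ᶜ, i.isClosedEmbedding.isClosed_range.isOpen_compl⟩
      have hx₁ : x₁ ∈ U₁ := by
        rintro ⟨y₁, rfl⟩
        apply hx
        rw [← Scheme.Hom.comp_apply, hw, Scheme.Hom.comp_apply]
        exact ⟨_, rfl⟩
      obtain ⟨n, c, hc, hxc, hcU, hca⟩ := exists_fam_basis hT₁ haff₁ hA x₁ U₁ hx₁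
      have hnil : ∀ j, ∃ N : ℕ, i.app (h ⁻¹ᵁ W j) (c j) ^ N = 0 := by
        intro j
        have h1 : T₁.basicOpen (i.app (h ⁻¹ᵁ W j) (c j)) = ⊥ := by
          rw [eq_bot_iff]
          intro y hy
          rw [← Scheme.preimage_basicOpen] at hy
          have h2 : i y ∈ locus (fun j ↦ h ⁻¹ᵁ W j) c := mem_locus.mpr ⟨j, hy⟩
          exact hcU h2 ⟨y, rfl⟩
        have hsub : Subsingleton Γ(T₁, T₁.basicOpen (i.app (h ⁻¹ᵁ W j) (c j))) := by
          rw [h1]; infer_instance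
        obtain ⟨N, hN⟩ := res_zero_ext ((haff₁ j).preimage i).isCompact (i.app (h ⁻¹ᵁ W j) (c j)) 1
          (Subsingleton.elim _ _)
        exact ⟨N, by rwa [mul_one] at hN⟩
      choose N hN using hnil
      obtain ⟨N', hN'⟩ : ∃ N' : ℕ, ∀ j, N j ≤ N' := by
        cases nonempty_fintype ι
        exact ⟨Finset.univ.sup N, fun j ↦ Finset.le_sup (Finset.mem_univ j)⟩
      have hcp : IsFam (fun j ↦ h ⁻¹ᵁ W j)
          (fun j k ↦ h.app (W j ⊓ W k) (g j k) ^ ((n + 1) * (N' + 1))) (fun j ↦ c j ^ (N' + 1)) :=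
        IsFam.congr (isFam_pow hc (N' + 1)) fun j k ↦ (pow_mul _ _ _).symm
      have hloc := locus_pow (W := fun j ↦ h ⁻¹ᵁ W j) c (Nat.succ_pos N')
      obtain ⟨b', hb', hxb', hab'⟩ := descend h hinj hcp (by rw [hloc]; exact hca) (by
        intro j
        apply hker
        rw [map_pow]
        exact pow_eq_zero_of_le ((hN' j).trans (Nat.le_succ _)) (hN j)) x₁ (by rw [hloc]; exact hxc)
      exact ⟨(n + 1) * (N' + 1), b', Nat.mul_pos (Nat.succ_pos _) (Nat.succ_pos _), hb', hxb', hab'⟩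
  rw [hT.isAmple_iff]
  refine ⟨inferInstance, fun x ↦ ?_⟩
  obtain ⟨n, b, hn, hb, hxb, hab⟩ := key x
  obtain ⟨m, rfl⟩ : ∃ m, n = m + 1 := ⟨n - 1, by omega⟩
  exact ⟨m, b, hb, hxb, hab⟩

end K891.Pinch
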