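import Groth.Agent.EGA43.K891.FieldPoints
import Groth.Agent.EGA43.K891.RedProper
import Groth.Agent.Ega43.DvrScheme
import Groth.Agent.Ega43.OpenAt
import Groth.Agent.S0384

/-!
# Properness of a closed set near a point of the base and discrete valuation rings
-/

set_option autoImplicit false
universe u

open CategoryTheory CategoryTheory.Limits AlgebraicGeometry TopologicalSpace IsLocalRing
open Groth.Agent.Ega43

namespace K891.ProperClosure

/-- The valuative condition at `y` for the rational points above `Z`. -/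
def DvrCond {X Y : Scheme.{u}} (f : X ⟶ Y) (Z : Set X) (y : Y) : Prop :=
  ∀ (A' : Type u) [CommRing A'] [IsDomain A'] [IsDiscreteValuationRing A'] (g : Spec (CommRingCat.of A') ⟶ Y),
        g.base (IsLocalRing.closedPoint A') = y →
        ∀ x' : ↥(pullback f g), (pullback.fst f g).base x' ∈ Z →
          (pullback.snd f g).base x' = genericPoint (Spec (CommRingCat.of A')) →
          Function.Bijective ((pullback.snd f g).residueFieldMap x').hom →
          ∃ s : Spec (CommRingCat.of A') ⟶ pullback f g, s ≫ pullback.snd f g = 𝟙 _ ∧ x' ∈ Set.range s.base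

theorem lift_of_dvrCond {X Y : Scheme.{u}} (f : X ⟶ Y) (Z : Set X) (y : Y) (h : DvrCond f Z y)
    (R : Type u) [CommRing R] [IsDomain R] [IsDiscreteValuationRing R] (K : Type u) [Field K]
    [Algebra R K] [IsFractionRing R K] (i₁ : Spec (CommRingCat.of K) ⟶ X)
    (i₂ : Spec (CommRingCat.of R) ⟶ Y) (hy : i₂ (closedPoint R) = y)
    (hc : i₁ ≫ f = Spec.map (CommRingCat.ofHom (algebraMap R K)) ≫ i₂)
    (hZ : i₁ (closedPoint K) ∈ Z) :
    ∃ l : Spec (CommRingCat.of R) ⟶ X,
      Spec.map (CommRingCat.ofHom (algebraMap R K)) ≫ l = i₁ ∧ l ≫ f = i₂ := by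
  let σ := pullback.lift i₁ (Spec.map (CommRingCat.ofHom (algebraMap R K))) hc
  have hσ1 : σ ≫ pullback.fst f i₂ = i₁ := pullback.lift_fst _ _ _
  have hσ2 : σ ≫ pullback.snd f i₂ = Spec.map (CommRingCat.ofHom (algebraMap R K)) :=
    pullback.lift_snd _ _ _
  have h1 : pullback.fst f i₂ (σ (closedPoint K)) = i₁ (closedPoint K) := by
    rw [← hσ1]; exact (Scheme.Hom.comp_apply _ _ _).symm
  have h2 : pullback.snd f i₂ (σ (closedPoint K)) =
      genericPoint ↥(Spec (CommRingCat.of R)) := by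
    rw [← FieldPoints.apply_closedPoint (A := R) (K := K), ← hσ2]
    exact (Scheme.Hom.comp_apply _ _ _).symm
  have hb : Function.Bijective ((pullback.snd f i₂).residueFieldMap (σ (closedPoint K))).hom := by
    obtain ⟨b, hb⟩ := FieldPoints.exists_fac (σ ≫ pullback.snd f i₂)
      (pullback.snd f i₂ (σ (closedPoint K))) (Scheme.Hom.comp_apply _ _ _)
    exact FieldPoints.bijective_of_point (pullback.snd f i₂) _ σ rfl b
      (FieldPoints.surjective_of_isFractionRing _ b (hb.trans hσ2)) hb.symm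
  obtain ⟨s, hs1, ⟨t, ht⟩⟩ := h R i₂ hy (σ (closedPoint K)) (by
    have : pullback.fst f i₂ (σ (closedPoint K)) ∈ Z := by rw [h1]; exact hZ
    exact this) h2 hb
  have ht' : s t = σ (closedPoint K) := ht
  have ht2 : t = genericPoint ↥(Spec (CommRingCat.of R)) := by
    rw [← h2, ← ht', ← Scheme.Hom.comp_apply, hs1]
    rfl
  have key : Spec.map (CommRingCat.ofHom (algebraMap R K)) ≫ s = σ := by
    refine FieldPoints.lift_unique (pullback.snd f i₂) (σ (closedPoint K)) hb _ _ ?_ ?_ rfl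
    · rw [Category.assoc, hs1, Category.comp_id, hσ2]
    · rw [Scheme.Hom.comp_apply, FieldPoints.apply_closedPoint, ← ht2]
      exact ht'
  refine ⟨s ≫ pullback.fst f i₂, ?_, ?_⟩
  · rw [← Category.assoc, key, hσ1]
  · rw [Category.assoc, pullback.condition, ← Category.assoc, hs1, Category.id_comp]

/-- Valuation-theoretic key step. -/
theorem mem_range_of_mem_closure {X W P Y : Scheme.{u}} [IsLocallyNoetherian P] (f : X ⟶ Y)
    (i : W ⟶ X) (j : W ⟶ P) (p : P ⟶ Y) [IsProper i] [IsSeparated p] [LocallyOfFiniteType j]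
    [QuasiCompact j]
    (hcomm : j ≫ p = i ≫ f) (Z : Set X) (y : Y) (h : DvrCond f Z y)
    (hZ : ∀ w : W, (∀ w' : W, w' ⤳ w → w' = w) → i w ∈ Z)
    (z : P) (hz : z ∈ closure (Set.range j))
    (hzy : p z = y) : z ∈ Set.range j := by
  have hcons : Topology.IsLocallyConstructible (Set.range j) := by
    rw [← Set.image_univ]
    exact j.isLocallyConstructible_image Topology.IsLocallyConstructible.univ
  obtain ⟨_, ⟨x'', rfl⟩, hxz''⟩ := OpenAt.exists_specializes_of_isLocallyConstructible hcons hz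
  obtain ⟨x', hx', hx''⟩ : ∃ x' : W, x' ⤳ x'' ∧ ∀ w' : W, w' ⤳ x' → w' = x' := by
    have h1 : IsIrreducible (irreducibleComponent x'') := isIrreducible_irreducibleComponent
    have h2 : IsClosed (irreducibleComponent x'') := isClosed_irreducibleComponent
    obtain ⟨x', hx'⟩ := QuasiSober.sober h1 h2
    refine ⟨x', hx'.specializes mem_irreducibleComponent, ?_⟩
    intro w' hw'
    have h3 : irreducibleComponent x'' ⊆ closure {w'} := by
      rw [← hx'.def]
      exact hw'.closure_subset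
    have h4 : closure {w'} = irreducibleComponent x'' :=
      eq_irreducibleComponent (isIrreducible_singleton.isPreirreducible.closure) h3
    exact IsGenericPoint.eq (h4 : IsGenericPoint w' _) hx'
  have hxz : j x' ⤳ z := (hx'.map j.continuous).trans hxz''
  by_cases hne : j x' = z
  · exact ⟨x', hne⟩
  obtain ⟨R, _, _, _, _, _, g, hg1, hg2⟩ :=
    DvrScheme.exists_dvr_of_specializes_of_locallyOfFiniteType j x' hxz hne
  obtain ⟨l, hl1, hl2⟩ := lift_of_dvrCond f Z y h R (W.residueField x')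
    (W.fromSpecResidueField x' ≫ i) (g ≫ p)
    ((Scheme.Hom.comp_apply _ _ _).trans ((congrArg p hg1).trans hzy)) (by
      rw [Category.assoc, ← hcomm, ← Category.assoc, ← Category.assoc, ← hg2]) (by
      rw [Scheme.Hom.comp_apply, Scheme.fromSpecResidueField_apply]
      exact hZ x' hx'')
  have hπ : (ValuativeCriterion.Existence ⊓ @QuasiCompact : MorphismProperty Scheme.{u}) i := by
    rw [← UniversallyClosed.eq_valuativeCriterion]; infer_instance
  let S1 : ValuativeCommSq i :=
    { R := R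
      K := W.residueField x'
      i₁ := W.fromSpecResidueField x'
      i₂ := l
      commSq := ⟨hl1.symm⟩ }
  have hs := hπ.1 S1
  obtain ⟨l', hl'1, hl'2⟩ := hs.exists_lift.some
  -- uniqueness
  let S2 : ValuativeCommSq p :=
    { R := R
      K := W.residueField x'
      i₁ := W.fromSpecResidueField x' ≫ j
      i₂ := g ≫ p
      commSq := ⟨by rw [← hg2, Category.assoc]⟩ }
  have hp := IsSeparated.valuativeCriterion p S2
  have hfac1 : Spec.map (CommRingCat.ofHom (algebraMap R (W.residueField x'))) ≫ l' ≫ j =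
      W.fromSpecResidueField x' ≫ j := by
    rw [← Category.assoc]
    exact congrArg (· ≫ j) hl'1
  have hfac2 : (l' ≫ j) ≫ p = g ≫ p := by
    rw [Category.assoc, hcomm, ← Category.assoc]
    have : l' ≫ i = l := hl'2
    rw [this, hl2]
  have key : l' ≫ j = g := by
    have := @Subsingleton.elim _ hp ⟨l' ≫ j, hfac1, hfac2⟩ ⟨g, hg2, rfl⟩
    exact congrArg CommSq.LiftStruct.l this
  refine ⟨l' (closedPoint R), ?_⟩
  rw [← hg1, ← key]
  exact (Scheme.Hom.comp_apply _ _ _).symm

/-- Geometric key step. -/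
theorem exists_isProper_restrict {W P Y : Scheme.{u}}
    (j : W ⟶ P) (p : P ⟶ Y) [IsProper p] [IsImmersion j] (y : Y)
    (h : ∀ z ∈ closure (Set.range j), p z = y → z ∈ Set.range j) :
    ∃ U : Y.Opens, y ∈ U ∧ IsProper ((j ≫ p) ∣_ U) := by
  have hZ : IsClosed (coborder (Set.range j))ᶜ :=
    (isLocallyClosed_iff_isOpen_coborder.mp j.isLocallyClosed_range).isClosed_compl
  have hpZ : IsClosed (p '' (coborder (Set.range j))ᶜ) := p.isClosedMap _ hZ
  let U : Y.Opens := ⟨(p '' (coborder (Set.range j))ᶜ)ᶜ, hpZ.isOpen_compl⟩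
  have hpU : ∀ z : P, p z ∈ U → z ∈ coborder (Set.range j) := by
    intro z hz
    by_contra hzn
    exact hz ⟨z, hzn, rfl⟩
  refine ⟨U, ?_, ?_⟩
  · rintro ⟨z, hz, hzy⟩
    have h1 : z ∈ closure (Set.range j) := by
      rw [coborder, compl_compl] at hz
      exact hz.1
    exact hz (subset_coborder (h z h1 hzy))
  · have hcl : IsClosedImmersion (j ∣_ (p ⁻¹ᵁ U)) := by
      refine IsClosedImmersion.of_isPreimmersion _ ?_
      have h1 : Set.range (j ∣_ (p ⁻¹ᵁ U)) = (p ⁻¹ᵁ U).ι ⁻¹' closure (Set.range j) := by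
        ext z
        rw [Set.mem_preimage]
        constructor
        · rintro ⟨w, rfl⟩
          apply subset_closure
          rw [← Scheme.Hom.comp_apply, morphismRestrict_ι, Scheme.Hom.comp_apply]
          exact ⟨_, rfl⟩
        · intro hz
          have h2 : (p ⁻¹ᵁ U).ι z ∈ Set.range j := by
            rw [← closure_inter_coborder (s := Set.range j)]
            exact ⟨hz, hpU _ z.2⟩
          obtain ⟨w, hw⟩ := h2
          have hw' : w ∈ j ⁻¹ᵁ (p ⁻¹ᵁ U) := by
            change j w ∈ p ⁻¹ᵁ U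
            rw [hw]
            exact z.2
          let w' : ((j ⁻¹ᵁ (p ⁻¹ᵁ U) : W.Opens) : Scheme.{u}) := ⟨w, hw'⟩
          refine ⟨w', ?_⟩
          apply (p ⁻¹ᵁ U).ι.isOpenEmbedding.injective
          have h3 : (p ⁻¹ᵁ U).ι ((j ∣_ (p ⁻¹ᵁ U)) w') = j ((j ⁻¹ᵁ (p ⁻¹ᵁ U)).ι w') := by
            rw [← Scheme.Hom.comp_apply, morphismRestrict_ι, Scheme.Hom.comp_apply]
          exact h3.trans hw
      rw [h1]
      exact isClosed_closure.preimage (p ⁻¹ᵁ U).ι.continuous
    rw [morphismRestrict_comp]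
    have h5 : IsProper (j ∣_ (p ⁻¹ᵁ U)) := by infer_instance
    have h6 : IsProper (p ∣_ U) := IsZariskiLocalAtTarget.restrict ‹_› _
    exact MorphismProperty.comp_mem @IsProper _ _ h5 h6

/-- The valuative condition implies properness near `y` of a closed subscheme on the closure. -/
theorem exists_isProper_of_dvrCond {X W Y : Scheme.{u}} [IsNoetherian Y] (f : X ⟶ Y) [IsSeparated f]
    [LocallyOfFiniteType f] [QuasiCompact f] (i : W ⟶ X) [IsClosedImmersion i] (Z : Set X) (y : Y)
    (h : DvrCond f Z y)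
    (hZ : ∀ w : W, (∀ w' : W, w' ⤳ w → w' = w) → i w ∈ Z) :
    ∃ U : Y.Opens, y ∈ U ∧ IsProper ((i ≫ f) ∣_ U) := by
  obtain ⟨P, j, p, hj, hjq, hp, hjp⟩ := Groth.Agent.S0384.result (i ≫ f)
  have hP : IsLocallyNoetherian P := LocallyOfFiniteType.isLocallyNoetherian p
  rw [← hjp]
  refine exists_isProper_restrict j p y fun z hz hzy => ?_
  exact mem_range_of_mem_closure f i j p hjp Z y h hZ z hz hzy

/-- Conversely, properness near `y` implies the valuative condition. -/
theorem dvrCond_of_isProper {X W Y : Scheme.{u}} (f : X ⟶ Y) (i : W ⟶ X) [IsClosedImmersion i]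
    (Z : Set X) (y : Y) (hZ : Z ⊆ Set.range i) (U : Y.Opens) (hyU : y ∈ U)
    (hU : IsProper ((i ≫ f) ∣_ U)) : DvrCond f Z y := by
  intro A' _ _ _ g hg x' hx1 hx2 hb
  have hg' : g (closedPoint A') = y := hg
  have hx1' : pullback.fst f g x' ∈ Z := hx1
  have hx2' : pullback.snd f g x' = genericPoint ↥(Spec (CommRingCat.of A')) := hx2
  let K := FractionRing A'
  let φ : Spec (CommRingCat.of K) ⟶ Spec (CommRingCat.of A') :=
    Spec.map (CommRingCat.ofHom (algebraMap A' K))
  have hφ : φ (closedPoint K) = genericPoint ↥(Spec (CommRingCat.of A')) :=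
    FieldPoints.apply_closedPoint
  obtain ⟨σ, hσ1, hσ2⟩ := FieldPoints.exists_lift (pullback.snd f g) x' hb φ (hφ.trans hx2'.symm)
  -- factor through `i`
  have hr : Set.range (σ ≫ pullback.fst f g) ⊆ Set.range i := by
    rintro _ ⟨t, rfl⟩
    have ht : t = closedPoint K := Subsingleton.elim _ _
    rw [ht, Scheme.Hom.comp_apply, hσ2]
    exact hZ hx1'
  obtain ⟨a, ha⟩ := Groth.Agent.Pic13.H959.RedLift.exists_lift i (σ ≫ pullback.fst f g) hr
  -- `g` factors through `U`
  have hgU : ∀ t : ↥(Spec (CommRingCat.of A')), g t ∈ U := by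
    intro t
    have h1 : t ⤳ (closedPoint A' : ↥(Spec (CommRingCat.of A'))) :=
      IsLocalRing.specializes_closedPoint t
    exact (h1.map g.continuous).mem_open U.2 (by rw [hg']; exact hyU)
  obtain ⟨g', hg'U⟩ : ∃ g' : Spec (CommRingCat.of A') ⟶ (U : Scheme.{u}), g' ≫ U.ι = g := by
    refine ⟨IsOpenImmersion.lift U.ι g ?_, IsOpenImmersion.lift_fac _ _ _⟩
    rw [Scheme.Opens.range_ι]
    rintro _ ⟨t, rfl⟩
    exact hgU t
  have hcomp : a ≫ (i ≫ f) = φ ≫ g := by
    rw [← Category.assoc, ha, Category.assoc, pullback.condition, ← Category.assoc, hσ1]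
  obtain ⟨a', ha'⟩ : ∃ a' : Spec (CommRingCat.of K) ⟶ (((i ≫ f) ⁻¹ᵁ U : W.Opens) : Scheme.{u}),
      a' ≫ ((i ≫ f) ⁻¹ᵁ U).ι = a := by
    refine ⟨IsOpenImmersion.lift ((i ≫ f) ⁻¹ᵁ U).ι a ?_, IsOpenImmersion.lift_fac _ _ _⟩
    rw [Scheme.Opens.range_ι]
    rintro _ ⟨t, rfl⟩
    change (i ≫ f) (a t) ∈ U
    rw [← Scheme.Hom.comp_apply, hcomp, Scheme.Hom.comp_apply]
    exact hgU _
  have hex : (ValuativeCriterion.Existence ⊓ @QuasiCompact : MorphismProperty Scheme.{u})
      ((i ≫ f) ∣_ U) := by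
    rw [← UniversallyClosed.eq_valuativeCriterion]; infer_instance
  let S1 : ValuativeCommSq ((i ≫ f) ∣_ U) :=
    { R := A'
      K := K
      i₁ := a'
      i₂ := g'
      commSq := ⟨by
        rw [← cancel_mono U.ι, Category.assoc, Category.assoc, morphismRestrict_ι, hg'U,
          ← Category.assoc, ha', hcomp]⟩ }
  obtain ⟨l', hl'1, hl'2⟩ := (hex.1 S1).exists_lift.some
  have hl'1' : φ ≫ l' = a' := hl'1
  have hl'2' : l' ≫ ((i ≫ f) ∣_ U) = g' := hl'2
  have hl : (l' ≫ ((i ≫ f) ⁻¹ᵁ U).ι ≫ i) ≫ f = g := by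
    rw [Category.assoc, Category.assoc, ← morphismRestrict_ι, ← Category.assoc, hl'2', hg'U]
  refine ⟨pullback.lift (l' ≫ ((i ≫ f) ⁻¹ᵁ U).ι ≫ i) (𝟙 _) (by rw [hl, Category.id_comp]),
    pullback.lift_snd _ _ _, genericPoint ↥(Spec (CommRingCat.of A')), ?_⟩
  have key : φ ≫ pullback.lift (l' ≫ ((i ≫ f) ⁻¹ᵁ U).ι ≫ i) (𝟙 _)
      (by rw [hl, Category.id_comp]) = σ := by
    apply pullback.hom_ext
    · rw [Category.assoc, pullback.lift_fst, ← Category.assoc, hl'1', ← Category.assoc, ha', ha]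
    · rw [Category.assoc, pullback.lift_snd, Category.comp_id, hσ1]
  have h3 := congrArg (fun ψ : Spec (CommRingCat.of K) ⟶ pullback f g => ψ (closedPoint K)) key
  simp only [Scheme.Hom.comp_apply, hσ2] at h3
  rw [hφ] at h3
  exact h3

end K891.ProperClosure
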