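import Groth.Agent.EGA43.K891.AmpleFinSurj
import Groth.Agent.Ega2.RelAmpRows
import Groth.Agent.Ega43.QSectNoeth

/-!
# Descent of relative ampleness along universally open surjective morphisms
-/

set_option autoImplicit false
universe u

open CategoryTheory CategoryTheory.Limits AlgebraicGeometry TopologicalSpace Opposite

namespace K891.UnivOpenDesc

open Groth.Agent.Fdesc.LocGen Groth.Agent.Flat2H.FamExt Groth.Agent.Flat2H.FamDict
open Groth.Agent.Ega43.QSectScheme Groth.Agent.Ega2.RelAmp Groth.Agent.Ega2.Ample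

/-- Ampleness of the pullback to `P = X ×_Y T`, `T` affine with local sections to `Y'`. -/
theorem isAmple_of_locSec {X Y Y' T P : Scheme.{u}} [IsAffine T] {f : X ⟶ Y} {g : Y' ⟶ Y} {t : T ⟶ Y}
    {a : P ⟶ X} {b : P ⟶ T} (sq : IsPullback a b f t) (hsec : ∀ y : T, LocSec g t y) {L : X.Modules}
    (hA : RelAmple.IsRelAmple (pullback.snd f g) ((Scheme.Modules.pullback (pullback.fst f g)).obj L)) :
    CohB1.IsAmple ((Scheme.Modules.pullback a).obj L) := by
  have hqc : QuasiCompact (pullback.snd f g) := hA.1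
  rw [← isRelAmple_iff_isAmple (f := b)]
  apply isRelAmple_of_forall_exists
  intro y
  obtain ⟨W, j, hj, σ, hy, hσ⟩ := hsec y
  obtain ⟨V, hV, hyV, hVW⟩ : ∃ V : T.Opens, V ∈ T.affineOpens ∧ y ∈ V ∧ V ≤ j.opensRange := (Opens.isBasis_iff_nbhd.1 T.isBasis_affineOpens)
    (show y ∈ j.opensRange from hy)
  refine ⟨V, hV, hyV, ?_⟩
  have : IsAffine (V : Scheme.{u}) := hV
  have hr : Set.range V.ι ⊆ Set.range j := by
    rw [Scheme.Opens.range_ι]
    exact hVW
  let σV : (V : Scheme.{u}) ⟶ Y' := IsOpenImmersion.lift j V.ι hr ≫ σ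
  have hσV : σV ≫ g = V.ι ≫ t := by
    change (IsOpenImmersion.lift j V.ι hr ≫ σ) ≫ g = _
    rw [Category.assoc, hσ, ← Category.assoc, IsOpenImmersion.lift_fac]
  have h1 : CohB1.IsAmple ((Scheme.Modules.pullback (pullback.fst (pullback.snd f g) σV)).obj
      ((Scheme.Modules.pullback (pullback.fst f g)).obj L)) :=
    isRelAmple_iff_isAmple.1 (relAmple_baseChange (pullback.snd f g) σV _ hA)
  have hcond : ((b ⁻¹ᵁ V).ι ≫ a) ≫ f = ((b ∣_ V) ≫ σV) ≫ g := by
    rw [Category.assoc, Category.assoc, hσV, sq.w, morphismRestrict_ι_assoc]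
  let m : ((b ⁻¹ᵁ V : P.Opens) : Scheme.{u}) ⟶ pullback f g :=
    pullback.lift ((b ⁻¹ᵁ V).ι ≫ a) ((b ∣_ V) ≫ σV) hcond
  have hm₁ : m ≫ pullback.fst f g = (b ⁻¹ᵁ V).ι ≫ a := pullback.lift_fst _ _ _
  have hm₂ : m ≫ pullback.snd f g = (b ∣_ V) ≫ σV := pullback.lift_snd _ _ _
  have hbig : IsPullback (m ≫ pullback.fst f g) (b ∣_ V) f (σV ≫ g) := by
    rw [hm₁, hσV]
    exact (isPullback_morphismRestrict b V).flip.paste_horiz sq
  have H : IsPullback m (b ∣_ V) (pullback.snd f g) σV :=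
    IsPullback.of_right hbig hm₂ (IsPullback.of_hasPullback f g)
  have h2 : CohB1.IsAmple ((Scheme.Modules.pullback H.isoPullback.hom).obj
      ((Scheme.Modules.pullback (pullback.fst (pullback.snd f g) σV)).obj
        ((Scheme.Modules.pullback (pullback.fst f g)).obj L))) :=
    Groth.Agent.Flat2H.FamOpen.isAmple_pullback_of_isAffineHom H.isoPullback.hom h1
  rw [← isAmple_restrict_ι_iff]
  refine isAmple_of_iso ?_ h2
  exact (Scheme.Modules.pullbackComp _ _).app _ ≪≫ (Scheme.Modules.pullbackComp _ _).app _ ≪≫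
    (Scheme.Modules.pullbackCongr (by rw [Category.assoc, IsPullback.isoPullback_hom_fst_assoc, hm₁])).app L ≪≫
    ((Scheme.Modules.pullbackComp (b ⁻¹ᵁ V).ι a).app L).symm ≪≫
    ((Scheme.Modules.restrictFunctorIsoPullback (b ⁻¹ᵁ V).ι).app _).symm

/-- **Descent of relative ampleness along a universally open surjective morphism locally of finite
type**, when the non-normal locus is contained in a closed subset proper over the base. -/
theorem isRelAmple_of_univOpen {X Y Y' : Scheme.{u}} [IsLocallyNoetherian Y] (f : X ⟶ Y)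
    [LocallyOfFiniteType f] (g : Y' ⟶ Y) [LocallyOfFiniteType g] [UniversallyOpen g] [Surjective g]
    {L : X.Modules} (hL : PicF.IsInvertible L) (Z : Closeds X)
    (hZ : IsProper ((Scheme.IdealSheafData.vanishingIdeal Z).subschemeι ≫ f))
    (hnor : ∀ x : X, x ∉ (Z : Set X) →
      IsDomain (X.presheaf.stalk x) ∧ IsIntegrallyClosed (X.presheaf.stalk x))
    (hA : RelAmple.IsRelAmple (pullback.snd f g) ((Scheme.Modules.pullback (pullback.fst f g)).obj L)) :
    RelAmple.IsRelAmple f L := by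
  have key : ∀ V : Y.affineOpens, CohB1.IsAmple (L.restrict (f ⁻¹ᵁ V.1).ι) := by
    rintro ⟨V, hV⟩
    have hRn : IsNoetherianRing Γ(Y, V) := IsLocallyNoetherian.component_noetherian ⟨V, hV⟩
    let U : X.Opens := f ⁻¹ᵁ V
    let aX : (U : Scheme.{u}) ⟶ Spec (CommRingCat.of Γ(Y, V)) := (f ∣_ V) ≫ hV.isoSpec.hom
    have hlft : LocallyOfFiniteType (f ∣_ V) := inferInstance
    have haX : LocallyOfFiniteType aX := inferInstanceAs (LocallyOfFiniteType (_ ≫ hV.isoSpec.hom))
    let gV : ((g ⁻¹ᵁ V : Y'.Opens) : Scheme.{u}) ⟶ Spec (CommRingCat.of Γ(Y, V)) :=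
      (g ∣_ V) ≫ hV.isoSpec.hom
    have hg₁ : LocallyOfFiniteType gV := inferInstanceAs (LocallyOfFiniteType ((g ∣_ V) ≫ hV.isoSpec.hom))
    have hgo : UniversallyOpen (g ∣_ V) :=
      MorphismProperty.of_isPullback (isPullback_morphismRestrict g V).flip inferInstance
    have hgs : Surjective (g ∣_ V) :=
      MorphismProperty.of_isPullback (isPullback_morphismRestrict g V).flip inferInstance
    have hg₂ : UniversallyOpen gV := inferInstanceAs (UniversallyOpen ((g ∣_ V) ≫ hV.isoSpec.hom))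
    have hg₃ : Surjective gV := inferInstanceAs (Surjective ((g ∣_ V) ≫ hV.isoSpec.hom))
    obtain ⟨R', t, hfin, hsurj, hsec⟩ := exists_affine gV
    have hsec' : ∀ y, LocSec g (t ≫ hV.fromSpec) y := by
      intro y
      obtain ⟨W, j, hj, σ, hy, hσ⟩ := hsec y
      refine ⟨W, j, hj, σ ≫ (g ⁻¹ᵁ V).ι, hy, ?_⟩
      have h1 : σ ≫ (g ∣_ V) = j ≫ t ≫ hV.isoSpec.inv := by
        rw [← Category.assoc, ← hσ]
        change _ = (σ ≫ (g ∣_ V) ≫ hV.isoSpec.hom) ≫ hV.isoSpec.inv
        rw [Category.assoc, Category.assoc, Iso.hom_inv_id, Category.comp_id]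
      rw [Category.assoc, ← morphismRestrict_ι, ← Category.assoc, h1, Category.assoc, Category.assoc,
        hV.isoSpec_inv_ι]
    let p₁ : pullback aX t ⟶ (U : Scheme.{u}) := pullback.fst aX t
    let p₂ : pullback aX t ⟶ Spec R' := pullback.snd aX t
    have hsq : IsPullback U.ι aX f hV.fromSpec := by
      have h1 : IsPullback (𝟙 (U : Scheme.{u})) aX (f ∣_ V) hV.isoSpec.inv := by
        refine IsPullback.of_horiz_isIso ⟨?_⟩
        change _ = ((f ∣_ V) ≫ hV.isoSpec.hom) ≫ hV.isoSpec.inv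
        rw [Category.assoc, Iso.hom_inv_id, Category.comp_id, Category.id_comp]
      have h2 := h1.paste_horiz (isPullback_morphismRestrict f V).flip
      rwa [Category.id_comp, hV.isoSpec_inv_ι] at h2
    have hbig : IsPullback (p₁ ≫ U.ι) p₂ f (t ≫ hV.fromSpec) :=
      (IsPullback.of_hasPullback aX t).paste_horiz hsq
    have h1 := isAmple_of_locSec hbig hsec' hA
    have h2 : CohB1.IsAmple ((Scheme.Modules.pullback p₁).obj (L.restrict U.ι)) := by
      refine isAmple_of_iso ?_ h1
      exact ((Scheme.Modules.pullbackComp p₁ U.ι).app L).symm ≪≫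
        (Scheme.Modules.pullback p₁).mapIso ((Scheme.Modules.restrictFunctorIsoPullback U.ι).app L).symm
    have hp₁ : IsFinite p₁ := inferInstanceAs (IsFinite (pullback.fst aX t))
    have hp₁s : Surjective p₁ := inferInstanceAs (Surjective (pullback.fst aX t))
    have hcP : CompactSpace ↥(pullback aX t) := h2.2.1
    have hcU : CompactSpace (U : Scheme.{u}) := hp₁s.1.compactSpace p₁.continuous
    let Z' : Closeds (U : Scheme.{u}) := ⟨U.ι ⁻¹' Z, Z.isClosed.preimage U.ι.continuous⟩
    have hred := Groth.Agent.Ega1.ReducedSub.isReduced_subscheme_vanishingIdeal Z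
    have hZ' : IsProper ((Scheme.IdealSheafData.vanishingIdeal Z').subschemeι ≫ aX) := by
      have h1 : IsProper ((Scheme.IdealSheafData.vanishingIdeal Z').subschemeι ≫ (f ∣_ V)) :=
        (K891.RedProper.isProper_iff (Scheme.IdealSheafData.vanishingIdeal Z).subschemeι f (Z : Set X)
          (K891.RedProper.range_subschemeι Z) V (Z.isClosed.preimage U.ι.continuous)).2
          inferInstance
      rw [← Category.assoc]
      infer_instance
    refine K891.AmpleFinSurj.isAmple_of_finite aX p₁ Z' hZ' (fun x hx ↦ Or.inl ?_)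
      (Groth.Agent.Flat2H.RelAmpleBasic.isInvertible_restrict hL U.ι) h2
    exact Groth.Agent.Ega4C.NormalRing2.isDomain_isIntegrallyClosed_of_ringEquiv
      (asIso (U.ι.stalkMap x)).commRingCatIsoToRingEquiv (hnor _ hx)
  refine ⟨quasiCompact_iff_forall_isAffineOpen.2 fun V hV ↦ ?_, key⟩
  exact isCompact_iff_compactSpace.2 (key ⟨V, hV⟩).2.1

end K891.UnivOpenDesc
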