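import Groth.Agent.S2587
import Groth.Agent.EGA43.K891.CplDvrExt
import Groth.Agent.EGA43.K891.DvrThrough
import Groth.Agent.EGA43.K891.FieldPoints

/-!
# Universal openness at a point and lifting of points over complete discrete valuation rings
-/

set_option autoImplicit false
universe u

open CategoryTheory CategoryTheory.Limits AlgebraicGeometry IsLocalRing

namespace K891.UnivOpenLift

/-- The closed point of `Spec κ(A)` goes to the closed point of `Spec A`. -/
theorem residue_closedPoint (A : Type u) [CommRing A] [IsLocalRing A]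
    (s : ↥(Spec (CommRingCat.of (ResidueField A)))) :
    Spec.map (CommRingCat.ofHom (residue A)) s = closedPoint A := by
  have hs : s = closedPoint (ResidueField A) := Subsingleton.elim _ _
  rw [hs]
  exact IsLocalRing.comap_closedPoint (residue A)

/-- A finite homomorphism of discrete valuation rings is injective. -/
theorem injective_of_finite {A B : Type u} [CommRing A] [IsDomain A] [IsDiscreteValuationRing A]
    [CommRing B] [IsDomain B] [IsDiscreteValuationRing B] (φ : A →+* B) (h : φ.Finite) :
    Function.Injective φ := by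
  rw [RingHom.injective_iff_ker_eq_bot]
  by_contra hne
  have hp : (RingHom.ker φ).IsPrime := RingHom.ker_isPrime φ
  have hm : (RingHom.ker φ).IsMaximal := Ring.DimensionLEOne.maximalOfPrime hne hp
  have hf : IsField (A ⧸ RingHom.ker φ) := (Ideal.Quotient.maximal_ideal_iff_isField_quotient _).1 hm
  have h1 : (RingHom.kerLift φ).IsIntegral := by
    have h2 : φ.IsIntegral := h.to_isIntegral
    intro b
    obtain ⟨p, hp, hpb⟩ := h2 b
    refine ⟨p.map (Ideal.Quotient.mk _), hp.map _, ?_⟩
    rw [Polynomial.eval₂_map]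
    exact hpb
  let _ : Algebra (A ⧸ RingHom.ker φ) B := (RingHom.kerLift φ).toAlgebra
  have h3 : Algebra.IsIntegral (A ⧸ RingHom.ker φ) B := ⟨h1⟩
  have h4 : IsField B := isField_of_isIntegral_of_isField' hf
  exact IsDiscreteValuationRing.not_isField B h4

/-- Lifting over a discrete valuation ring, in terms of a scheme `P` over a complete discrete
valuation ring. -/
theorem exists_lift_of_specializes {P : Scheme.{u}} [IsLocallyNoetherian P] (A : Type u) [CommRing A]
    [IsDomain A] [IsDiscreteValuationRing A] [IsAdicComplete (maximalIdeal A) A]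
    (q : P ⟶ Spec (CommRingCat.of A)) (u : Spec (CommRingCat.of (ResidueField A)) ⟶ P)
    (hu : u ≫ q = Spec.map (CommRingCat.ofHom (residue A)))
    (z : P) (hz : z ⤳ u (closedPoint _)) (hqz : q z ≠ closedPoint A) :
    ∃ (B : CommRingCat.{u}) (_ : IsDomain B) (_ : IsDiscreteValuationRing B) (φ : A →+* B)
      (_ : IsLocalHom φ) (v : Spec B ⟶ P),
      φ.Finite ∧ v ≫ q = Spec.map (CommRingCat.ofHom φ) ∧
      Spec.map (CommRingCat.ofHom (IsLocalRing.ResidueField.map φ)) ≫ u =
        Spec.map (CommRingCat.ofHom (IsLocalRing.residue B)) ≫ v := by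
  set x : P := u (closedPoint _) with hx
  let D := P.presheaf.stalk x
  let ρ : D ⟶ CommRingCat.of (ResidueField A) := Scheme.stalkClosedPointTo u
  have hρ : Spec.map ρ ≫ P.fromSpecStalk x = u := Scheme.Spec_stalkClosedPointTo_fromSpecStalk u
  have hρl : IsLocalHom ρ.hom := Scheme.isLocalHom_stalkClosedPointTo' u
  let α : CommRingCat.of A ⟶ D := Spec.preimage (P.fromSpecStalk x ≫ q)
  have hα : Spec.map α = P.fromSpecStalk x ≫ q := Spec.map_preimage _
  let _ : Algebra A D := α.hom.toAlgebra
  have hαρ : α ≫ ρ = CommRingCat.ofHom (residue A) := by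
    apply Spec.map_injective
    rw [Spec.map_comp, hα, ← Category.assoc, hρ, hu]
  have hαρ' : ∀ a : A, ρ.hom (algebraMap A D a) = residue A a := fun a =>
    congrArg (fun f => f.hom a) hαρ
  have hloc : IsLocalHom (algebraMap A D) := by
    refine ⟨fun a ha => ?_⟩
    have h1 : IsUnit (ρ.hom (algebraMap A D a)) := ha.map ρ.hom
    rw [hαρ'] at h1
    exact isUnit_of_map_unit (residue A) a h1
  have hker : ∀ d : D, residue D d = 0 → ρ.hom d = 0 := by
    intro d hd
    rw [residue_eq_zero_iff] at hd
    have h1 := _root_.map_nonunit ρ.hom d hd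
    have h2 : maximalIdeal (ResidueField A) = ⊥ := IsLocalRing.maximalIdeal_eq_bot
    have h3 : ρ.hom d ∈ (⊥ : Ideal (ResidueField A)) := h2 ▸ h1
    simpa using h3
  have hker' : ∀ d : D, ρ.hom d = 0 → residue D d = 0 := by
    intro d hd
    rw [residue_eq_zero_iff]
    by_contra h
    have h1 : IsUnit d := by simpa using h
    have h2 := h1.map ρ.hom
    rw [hd] at h2
    exact not_isUnit_zero h2
  have hres : Function.Surjective ((residue D).comp (algebraMap A D)) := by
    intro w
    obtain ⟨d, rfl⟩ := residue_surjective w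
    obtain ⟨a, ha⟩ := residue_surjective (ρ.hom d)
    refine ⟨a, ?_⟩
    have h1 : residue D (algebraMap A D a - d) = 0 := by
      apply hker'
      rw [map_sub, hαρ', ha, sub_self]
    rw [map_sub, sub_eq_zero] at h1
    exact h1
  obtain ⟨p, hp⟩ : z ∈ Set.range (P.fromSpecStalk x) := by
    rw [Scheme.range_fromSpecStalk]; exact hz
  have hqA : p.asIdeal.comap (algebraMap A D) ≠ maximalIdeal A := by
    intro h
    apply hqz
    rw [← hp, ← Scheme.Hom.comp_apply, ← hα]
    apply PrimeSpectrum.ext
    exact h
  have hDn : IsNoetherianRing D := inferInstance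
  obtain ⟨B, _, _, _, ψ, hψ, hfin⟩ := DvrThrough.exists_dvr A D hres p.asIdeal hqA
  have hφl : IsLocalHom (ψ.comp (algebraMap A D)) := RingHom.isLocalHom_comp _ _
  refine ⟨CommRingCat.of B, inferInstance, inferInstance, ψ.comp (algebraMap A D), hφl,
    Spec.map (CommRingCat.ofHom ψ) ≫ P.fromSpecStalk x, hfin, ?_, ?_⟩
  · rw [Category.assoc, ← hα, ← Spec.map_comp]
    rfl
  · rw [← hρ, ← Category.assoc, ← Category.assoc, ← Spec.map_comp, ← Spec.map_comp]
    congr 2
    ext d
    change ResidueField.map (ψ.comp (algebraMap A D)) (ρ.hom d) = residue B (ψ d)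
    obtain ⟨a, ha⟩ := residue_surjective (ρ.hom d)
    have h1 : residue D (algebraMap A D a - d) = 0 := by
      apply hker'
      rw [map_sub, hαρ', ha, sub_self]
    have h2 : residue B (ψ (algebraMap A D a - d)) = 0 := by
      rw [residue_eq_zero_iff] at h1 ⊢
      exact _root_.map_nonunit ψ _ h1
    rw [map_sub, map_sub, sub_eq_zero] at h2
    rw [← h2, ← ha]
    rfl

variable {X Y : Scheme.{u}} [IsLocallyNoetherian Y] (f : X ⟶ Y) [LocallyOfFiniteType f] (x : X)

theorem exists_lift (h : EGA43.IsUnivOpenAt f x) (A : Type u) [CommRing A] [IsDomain A]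
    [IsDiscreteValuationRing A] [IsAdicComplete (maximalIdeal A) A]
    (g : Spec (CommRingCat.of A) ⟶ Y) (hg : g (closedPoint A) = f x)
    (u₀ : Spec (CommRingCat.of (ResidueField A)) ⟶ X)
    (hu : u₀ ≫ f = Spec.map (CommRingCat.ofHom (residue A)) ≫ g) (hx : x ∈ Set.range u₀) :
    ∃ (B : CommRingCat.{u}) (_ : IsDomain B) (_ : IsDiscreteValuationRing B) (φ : A →+* B)
      (_ : IsLocalHom φ) (v : Spec B ⟶ X),
      φ.Finite ∧ v ≫ f = Spec.map (CommRingCat.ofHom φ) ≫ g ∧
      Spec.map (CommRingCat.ofHom (IsLocalRing.ResidueField.map φ)) ≫ u₀ =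
        Spec.map (CommRingCat.ofHom (IsLocalRing.residue B)) ≫ v := by
  let u : Spec (CommRingCat.of (ResidueField A)) ⟶ pullback f g :=
    pullback.lift u₀ (Spec.map (CommRingCat.ofHom (residue A))) hu
  have hufst : u ≫ pullback.fst f g = u₀ := pullback.lift_fst _ _ _
  have husnd : u ≫ pullback.snd f g = Spec.map (CommRingCat.ofHom (residue A)) :=
    pullback.lift_snd _ _ _
  have hux : pullback.fst f g (u (closedPoint _)) = x := by
    obtain ⟨s, hs⟩ := hx
    have h1 : s = closedPoint (ResidueField A) := Subsingleton.elim _ _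
    rw [← Scheme.Hom.comp_apply, hufst, ← h1]
    exact hs
  have hus : pullback.snd f g (u (closedPoint _)) = closedPoint A := by
    rw [← Scheme.Hom.comp_apply, husnd]
    exact residue_closedPoint A _
  obtain ⟨z, hz, hqz⟩ := (Groth.Agent.S2587.result f x).1 h A g hg _ hux hus
  have : IsLocallyNoetherian (pullback f g) :=
    LocallyOfFiniteType.isLocallyNoetherian (pullback.snd f g)
  obtain ⟨B, _, _, φ, _, v, h1, h2, h3⟩ := exists_lift_of_specializes A (pullback.snd f g) u husnd z hz hqz
  refine ⟨B, inferInstance, inferInstance, φ, inferInstance, v ≫ pullback.fst f g, h1, ?_, ?_⟩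
  · rw [Category.assoc, pullback.condition, ← Category.assoc, h2]
  · rw [← Category.assoc, ← h3, Category.assoc, hufst]

theorem isUnivOpenAt (H : ∀ (A : Type u) [CommRing A] [IsDomain A] [IsDiscreteValuationRing A]
        [IsAdicComplete (IsLocalRing.maximalIdeal A) A] [IsAlgClosed (IsLocalRing.ResidueField A)]
        (g : Spec (CommRingCat.of A) ⟶ Y), g (closedPoint A) = f x →
        ∀ u₀ : Spec (CommRingCat.of (IsLocalRing.ResidueField A)) ⟶ X,
          u₀ ≫ f = Spec.map (CommRingCat.ofHom (IsLocalRing.residue A)) ≫ g → x ∈ Set.range u₀ →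
          ∃ (B : CommRingCat.{u}) (_ : IsDomain B) (_ : IsDiscreteValuationRing B) (φ : A →+* B)
            (_ : IsLocalHom φ) (v : Spec B ⟶ X),
            φ.Finite ∧ v ≫ f = Spec.map (CommRingCat.ofHom φ) ≫ g ∧
            Spec.map (CommRingCat.ofHom (IsLocalRing.ResidueField.map φ)) ≫ u₀ =
              Spec.map (CommRingCat.ofHom (IsLocalRing.residue B)) ≫ v) :
    EGA43.IsUnivOpenAt f x := by
  rw [Groth.Agent.S2587.result f x]
  intro A _ _ _ g hg x' hx' hx''
  -- the residue field of `x'` over that of `A`
  let α : CommRingCat.of A ⟶ (pullback f g).residueField x' :=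
    Spec.preimage ((pullback f g).fromSpecResidueField x' ≫ pullback.snd f g)
  have hα : Spec.map α = (pullback f g).fromSpecResidueField x' ≫ pullback.snd f g :=
    Spec.map_preimage _
  have hαker : ∀ a ∈ maximalIdeal A, α.hom a = 0 := by
    intro a ha
    have h1 : Spec.map α (closedPoint _) = closedPoint A := by
      rw [hα, Scheme.Hom.comp_apply, Scheme.fromSpecResidueField_apply]
      exact hx''
    have h2 : (Spec.map α (closedPoint _)).asIdeal = maximalIdeal A := by rw [h1]; rfl
    rw [← h2] at ha
    have h3 : α.hom a ∈ maximalIdeal ((pullback f g).residueField x') := ha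
    have h4 : maximalIdeal ((pullback f g).residueField x') = ⊥ := IsLocalRing.maximalIdeal_eq_bot
    rw [h4] at h3
    simpa using h3
  let σ : ResidueField A →+* (pullback f g).residueField x' :=
    Ideal.Quotient.lift (maximalIdeal A) α.hom hαker
  have hσ : σ.comp (residue A) = α.hom := by
    ext a; rfl
  obtain ⟨B₀, _, _, _, φ₀, e, hcpl, hac, hinj, he⟩ :=
    CplDvrExt.exists_complete A ((pullback f g).residueField x') σ
  rw [hσ] at he
  let u : Spec (CommRingCat.of (ResidueField B₀)) ⟶ pullback f g :=
    Spec.map (CommRingCat.ofHom e) ≫ (pullback f g).fromSpecResidueField x'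
  have hu : u ≫ pullback.snd f g =
      Spec.map (CommRingCat.ofHom (residue B₀)) ≫ Spec.map (CommRingCat.ofHom φ₀) := by
    rw [Category.assoc, ← hα, ← Spec.map_comp, ← Spec.map_comp]
    congr 1
    ext a
    exact congrArg (fun f => f a) he
  have hux : ∀ s, u s = x' := fun s => by
    rw [Scheme.Hom.comp_apply, Scheme.fromSpecResidueField_apply]
  have hcl : Spec.map (CommRingCat.ofHom φ₀) (closedPoint B₀) = closedPoint A := by
    have h1 : Spec.map (CommRingCat.ofHom (residue B₀)) (closedPoint (ResidueField B₀)) =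
        closedPoint B₀ := residue_closedPoint B₀ _
    rw [← h1, ← Scheme.Hom.comp_apply, ← hu, Scheme.Hom.comp_apply, hux]
    exact hx''
  obtain ⟨B, _, _, φ, hφ, v, hfin, hv, hres⟩ := H B₀ (Spec.map (CommRingCat.ofHom φ₀) ≫ g)
    (by rw [Scheme.Hom.comp_apply, hcl]; exact hg) (u ≫ pullback.fst f g)
    (by rw [Category.assoc, pullback.condition, ← Category.assoc, hu, Category.assoc])
    ⟨closedPoint _, by rw [Scheme.Hom.comp_apply, hux]; exact hx'⟩
  let w : Spec B ⟶ pullback f g :=
    pullback.lift v (Spec.map (CommRingCat.ofHom φ) ≫ Spec.map (CommRingCat.ofHom φ₀))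
      (by rw [hv, Category.assoc])
  have hw1 : w ≫ pullback.fst f g = v := pullback.lift_fst _ _ _
  have hw2 : w ≫ pullback.snd f g =
    Spec.map (CommRingCat.ofHom φ) ≫ Spec.map (CommRingCat.ofHom φ₀) := pullback.lift_snd _ _ _
  have hw : Spec.map (CommRingCat.ofHom (residue B)) ≫ w =
      Spec.map (CommRingCat.ofHom (ResidueField.map φ)) ≫ u := by
    apply pullback.hom_ext
    · rw [Category.assoc, hw1, Category.assoc, hres]
    · have h1 : CommRingCat.ofHom φ ≫ CommRingCat.ofHom (residue B) =
          CommRingCat.ofHom (residue B₀) ≫ CommRingCat.ofHom (ResidueField.map φ) := by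
        ext a; rfl
      rw [Category.assoc, hw2, Category.assoc, hu, ← Category.assoc, ← Category.assoc,
        ← Spec.map_comp, ← Spec.map_comp, h1]
      simp only [Spec.map_comp, Category.assoc]
  have hwc : w (closedPoint B) = x' := by
    have h1 : Spec.map (CommRingCat.ofHom (residue B)) (closedPoint (ResidueField B)) =
        closedPoint B := residue_closedPoint B _
    rw [← h1, ← Scheme.Hom.comp_apply, hw, Scheme.Hom.comp_apply, hux]
  have hφinj : Function.Injective φ := injective_of_finite φ hfin
  let b : PrimeSpectrum B := ⊥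
  refine ⟨w b, ?_, ?_⟩
  · rw [← hwc]
    have h1 : b ⤳ closedPoint B := (PrimeSpectrum.le_iff_specializes _ _).1 bot_le
    exact h1.map w.continuous
  · intro h2
    rw [← Scheme.Hom.comp_apply, hw2, ← Spec.map_comp] at h2
    have h3 : Ideal.comap (φ.comp φ₀) ⊥ = maximalIdeal A := congrArg PrimeSpectrum.asIdeal h2
    rw [← RingHom.ker_eq_comap_bot, (RingHom.injective_iff_ker_eq_bot _).1
      (show Function.Injective (φ.comp φ₀) from hφinj.comp hinj)] at h3
    exact IsDiscreteValuationRing.not_a_field A h3.symm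

end K891.UnivOpenLift
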